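import Cfsg.Agent.Lib.GW.Sig.Abelian.Components
import Cfsg.Agent.S0217

/-!
# Balance and the signalizer in the abelian case

`W` is generated by the `O_{r'}(O(C(a)))` for `a` in `Z`; it is an odd `r'`-group, and the proper
subgroup `W N(Z)` contains the constrained centralisers of elements of `Z`.
-/

set_option autoImplicit false

namespace CfsgLib.GW.Sig

open Subgroup Cfsg
open CfsgLib.Signalizer (involution_sq involution_inv involution_ne_one orderOf_conj)

universe u

variable {G : Type u} [Group G] [Finite G] {r : ℕ} [Fact r.Prime]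

/-- Balance against a constrained centraliser. -/
theorem balance_constrained (hr : r ≠ 2) {h e : G} (hh : IsPGroup r (zpowers h))
    (he : Commute h e) (hc : Constrained r (centralizer ({e} : Set G))) :
    thetaOf r (centralizer ({h} : Set G)) ⊓ centralizer ({e} : Set G) ≤
      thetaOf r (centralizer ({e} : Set G)) := by
  refine balance hr hc (mem_centralizer_of_commute he) hh inf_le_right
    ((coprime_thetaOf r _).coprime_dvd_left (card_dvd_of_le inf_le_left))
    (inf_le_left.trans (thetaOf_le r _)) ?_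
  exact (le_inf (inf_le_right.trans (le_normalizer_thetaOf r _)) (inf_le_left.trans le_normalizer)).trans
    CfsgLib.Transfer.normalizer_le_normalizer_inf

/-- An `r'`-element of the product of an elementary abelian group and the core lies in the core. -/
theorem mem_oddOf_of_mem_sup {H Z : Subgroup G} (hZH : Z ≤ H) (hpow : ∀ a ∈ Z, a ^ r = 1) {y : G}
    (hy : y ∈ Z ⊔ oddOf H) (hyc : (orderOf y).Coprime r) : y ∈ oddOf H := by
  obtain ⟨z, hz, o, ho, rfl⟩ :=
    (CfsgLib.Core.mem_sup_iff_mul (hZH.trans (le_normalizer_oddOf H))).1 hy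
  have key : ∀ n : ℕ, (z ^ n)⁻¹ * (z * o) ^ n ∈ oddOf H := by
    intro n
    induction n with
    | zero => simp
    | succ n ih =>
      rw [show (z ^ (n + 1))⁻¹ * (z * o) ^ (n + 1) =
        (z⁻¹ * ((z ^ n)⁻¹ * (z * o) ^ n) * z⁻¹⁻¹) * o by rw [pow_succ z, pow_succ (z * o)]; group]
      exact mul_mem (conj_mem_oddOf (le_normalizer (hZH (inv_mem hz))) ih) ho
  have h1 := key r
  rw [hpow z hz, inv_one, one_mul] at h1
  obtain ⟨m, hm⟩ := exists_pow_eq_self_of_coprime hyc.symm
  exact hm ▸ pow_mem h1 m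

namespace AZ

variable (d : AZ G r)

/-- `Z` has rank at least three. -/
theorem rank_three (S : Std G r) : r ^ 3 ≤ Nat.card d.Z := by
  obtain ⟨⟨a, ha, pa⟩, ⟨b, hb, pb⟩, ⟨c, hc, pc⟩⟩ := d.pieces S.odd
  have hodd : ∀ {x : G}, x ∈ d.Z → Odd (orderOf x) := fun hx =>
    odd_orderOf_of_mem (d.odd_card S.odd) hx
  have hta : zpowers a ≤ centralizer ({d.t} : Set G) :=
    zpowers_le.2 (mem_centralizer_of_commute pa.2.1.symm)
  have h1 : zpowers a < zpowers a ⊔ zpowers b := lt_of_le_of_ne le_sup_left fun e => by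
    have hba : b ∈ zpowers a := e ▸ mem_sup_right (mem_zpowers b)
    refine hb (eq_one_of_inv_self (hodd pb.1) ?_)
    rw [← pb.2.2, conj_eq_of_commute (commute_of_mem_centralizer (hta hba)).symm]
  have h2 : zpowers a ⊔ zpowers b < (zpowers a ⊔ zpowers b) ⊔ zpowers c :=
    lt_of_le_of_ne le_sup_left fun e => by
    have hcab : c ∈ zpowers a ⊔ zpowers b := e ▸ mem_sup_right (mem_zpowers c)
    have hn : zpowers a ≤ normalizer ((zpowers b : Subgroup G) : Set G) := fun x hx =>
      mem_normalizer_of_conj fun y hy => by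
        rw [d.comm x (zpowers_le.2 pa.1 hx) y (zpowers_le.2 pb.1 hy), mul_inv_cancel_right]
        exact hy
    obtain ⟨x, hx, y, hy, e'⟩ := (CfsgLib.Core.mem_sup_iff_mul hn).1 hcab
    have hxZ : x ∈ d.Z := zpowers_le.2 pa.1 hx
    have hyZ : y ∈ d.Z := zpowers_le.2 pb.1 hy
    have htx : d.t * x * d.t⁻¹ = x :=
      conj_eq_of_commute (commute_of_mem_centralizer (hta hx)).symm
    obtain ⟨i, rfl⟩ := hy
    have hty : d.t * b ^ i * d.t⁻¹ = (b ^ i)⁻¹ := by
      rw [← conj_zpow, pb.2.2, inv_zpow]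
    have h3 : c⁻¹ = x * (b ^ i)⁻¹ := by
      rw [← pc.2.2, e', ← conj_mul, htx, hty]
    have hx1 : x = 1 := by
      refine eq_one_of_inv_self (hodd hxZ) ?_
      have h4 : x * (b ^ i)⁻¹ = x⁻¹ * (b ^ i)⁻¹ := by
        rw [← h3, e', mul_inv_rev]
        exact d.comm _ (inv_mem hyZ) _ (inv_mem hxZ)
      exact (mul_right_cancel h4).symm
    have hc' : c = b ^ i := by rw [e', hx1, one_mul]
    refine hc (eq_one_of_inv_self (hodd pc.1) ?_)
    have hut : d.u * c * d.u⁻¹ = c := by
      rw [hc']; exact conj_eq_of_commute (pb.2.1.zpow_right i)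
    have htu : d.t * d.u * c * (d.t * d.u)⁻¹ = c := conj_eq_of_commute pc.2.1
    rw [← pc.2.2]
    rwa [show d.t * d.u * c * (d.t * d.u)⁻¹ = d.t * (d.u * c * d.u⁻¹) * d.t⁻¹ by group, hut] at htu
  have hle : (zpowers a ⊔ zpowers b) ⊔ zpowers c ≤ d.Z :=
    sup_le (sup_le (zpowers_le.2 pa.1) (zpowers_le.2 pb.1)) (zpowers_le.2 pc.1)
  have h0 : (⊥ : Subgroup G) < zpowers a := bot_lt_iff_ne_bot.2 (mt zpowers_eq_bot.1 ha)
  have e0 := card_mul_le_of_lt (d.isP.to_le (h1.le.trans (h2.le.trans hle))) h0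
  have e1 := card_mul_le_of_lt (d.isP.to_le (h2.le.trans hle)) h1
  have e2 := card_mul_le_of_lt (d.isP.to_le hle) h2
  rw [card_bot, mul_one] at e0
  calc r ^ 3 = r * (r * r) := by ring
    _ ≤ r * (r * Nat.card (zpowers a)) := Nat.mul_le_mul_left r (Nat.mul_le_mul_left r e0)
    _ ≤ r * Nat.card (zpowers a ⊔ zpowers b : Subgroup G) := Nat.mul_le_mul_left r e1
    _ ≤ _ := e2.trans (Subgroup.card_le_of_le hle)

/-- Balance: `O_{r'}(O(C(h))) ∩ C(e) ≤ O_{r'}(O(C(e)))`. -/
theorem balance_pair (S : Std G r) {h e : G} (hh : IsPGroup r (zpowers h))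
    (hhZ : ∀ a ∈ d.Z, Commute h a) (he : e ∈ d.Z) (he1 : e ≠ 1) :
    thetaOf r (centralizer ({h} : Set G)) ⊓ centralizer ({e} : Set G) ≤
      thetaOf r (centralizer ({e} : Set G)) := by
  by_cases hc : Constrained r (centralizer ({e} : Set G))
  · exact balance_constrained S.odd hh (hhZ e he) hc
  set C := centralizer ({h} : Set G) with hC
  set H := centralizer ({e} : Set G) with hH
  set Y := thetaOf r C ⊓ H with hY
  have hHtop : H ≠ ⊤ := d.centralizer_ne_top S he1
  have hI := innerLike hc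
  set N := inner r H with hN
  have hZH : d.Z ≤ H := fun a ha => d.mem_centralizer ha he
  have hZC : d.Z ≤ C := fun a ha => mem_centralizer_of_commute (hhZ a ha).symm
  have hhH : h ∈ H := mem_centralizer_of_commute (hhZ e he)
  have hYc : (Nat.card Y).Coprime r :=
    (coprime_thetaOf r C).coprime_dvd_left (card_dvd_of_le inf_le_left)
  have hYo : Odd (Nat.card Y) := (odd_thetaOf r C).of_dvd_nat (card_dvd_of_le inf_le_left)
  have hnorm : C ⊓ H ≤ normalizer (Y : Set G) :=
    (le_inf (inf_le_left.trans (le_normalizer_thetaOf r C)) (inf_le_right.trans le_normalizer)).trans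
      CfsgLib.Transfer.normalizer_le_normalizer_inf
  obtain ⟨hle, hrk⟩ := d.inner_rank_two S hHtop hc hZH
  -- `Y` centralises `Z` modulo the core
  have hcomm : ∀ y ∈ Y, ∀ z ∈ d.Z, y * z * y⁻¹ * z⁻¹ ∈ oddOf H := by
    intro y hy z hz
    by_cases hhO : h ∈ oddOf H
    · have hinv : ∀ x ∈ N, TwoElt x → ∀ q ∈ Y, x * q * x⁻¹ ∈ Y ⊔ oddOf H := by
        intro x hx h2 q hq
        have hxf := mem_fixCore_of_inner hx h2
        have hcop : (Nat.card (zpowers h)).Coprime (Nat.card (thetaOf r H)) := by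
          obtain ⟨k, hk⟩ := IsPGroup.iff_card.1 hh
          exact hk ▸ ((coprime_thetaOf r H).pow_right k).symm
        obtain ⟨x', hx'H, hx'C, -, hx'θ, -⟩ := exists_lift (B := zpowers h)
          (zpowers_le.2 (le_normalizer hhH)) hcop hxf.1 h2 (by
            intro b hb
            rw [show b * x * b⁻¹ * x⁻¹ = (x * b * x⁻¹ * b⁻¹)⁻¹ by group]
            exact inv_mem (hxf.2 b (zpowers_le.2 hhO hb)))
        have hx'C' : x' ∈ C :=
          mem_centralizer_of_commute (mem_centralizer_iff.1 hx'C h (mem_zpowers h)).symm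
        have h1 : x' * q * x'⁻¹ ∈ Y :=
          (mem_normalizer_iff.1 (hnorm (Subgroup.mem_inf.2 ⟨hx'C', hx'H⟩)) q).1 hq
        have ho : x * x'⁻¹ ∈ oddOf H := thetaOf_le_oddOf r H (by
          rw [show x * x'⁻¹ = (x' * x⁻¹)⁻¹ by group]; exact inv_mem hx'θ)
        rw [show x * q * x⁻¹ = (x * x'⁻¹) * (x' * q * x'⁻¹) * (x * x'⁻¹)⁻¹ by group]
        exact mul_mem (mul_mem (mem_sup_right ho) (mem_sup_left h1)) (mem_sup_right (inv_mem ho))
      let L : Subgroup G :=
        { carrier := {w | w ∈ H ∧ w * y * w⁻¹ * y⁻¹ ∈ oddOf H}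
          one_mem' := ⟨one_mem H, by simp⟩
          mul_mem' := fun {a b} ha hb => ⟨mul_mem ha.1 hb.1, by
            rw [show a * b * y * (a * b)⁻¹ * y⁻¹ =
              (a * (b * y * b⁻¹ * y⁻¹) * a⁻¹) * (a * y * a⁻¹ * y⁻¹) by group]
            exact mul_mem (conj_mem_oddOf (le_normalizer ha.1) hb.2) ha.2⟩
          inv_mem' := fun {a} ha => ⟨inv_mem ha.1, by
            have h1 := conj_mem_oddOf (le_normalizer (inv_mem ha.1)) (inv_mem ha.2)
            rwa [show a⁻¹ * (a * y * a⁻¹ * y⁻¹)⁻¹ * a⁻¹⁻¹ = a⁻¹ * y * a⁻¹⁻¹ * y⁻¹ by group] at h1⟩ }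
      have hNL : N ≤ L := hI.gen.trans (sup_le
        (fun o ho => ⟨oddOf_le H ho, by
          rw [show o * y * o⁻¹ * y⁻¹ = o * (y * o⁻¹ * y⁻¹) by group]
          exact mul_mem ho (conj_mem_oddOf (le_normalizer hy.2) (inv_mem ho))⟩)
        ((closure_le L).2 fun x hx =>
          ⟨hI.le hx.1, comm_mem_oddOf hI inf_le_right hYo hinv hx.1 hx.2 hy⟩))
      rw [show y * z * y⁻¹ * z⁻¹ = (z * y * z⁻¹ * y⁻¹)⁻¹ by group]
      exact inv_mem (hNL (hle hz)).2
    · have hsc := d.self_centralizing S hHtop hc hZH hhH fun a ha => by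
        rw [conj_eq_of_commute (hhZ a ha), mul_inv_cancel]; exact one_mem _
      obtain ⟨q, hq, o, ho, e'⟩ :=
        (CfsgLib.Core.mem_sup_iff_mul (hZH.trans (le_normalizer_oddOf H))).1 hsc
      have hqO : q ∉ oddOf H := fun hqO => hhO (e' ▸ mul_mem hqO ho)
      set x := y * z * y⁻¹ * z⁻¹ with hx
      have hxY : x ∈ Y := by
        rw [hx, show y * z * y⁻¹ * z⁻¹ = y * (z * y⁻¹ * z⁻¹) by group]
        exact mul_mem hy
          ((mem_normalizer_iff.1 (hnorm (Subgroup.mem_inf.2 ⟨hZC hz, hZH hz⟩)) _).1 (inv_mem hy))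
      have hxN : x ∈ N :=
        mul_mem ((mem_normalizer_iff.1 (hI.normal hy.2) z).1 (hle hz)) (inv_mem (hle hz))
      have hxo : Odd (orderOf x) := odd_orderOf_of_mem hYo hxY
      have hxq : x * q * x⁻¹ * q⁻¹ ∈ oddOf H := by
        have hxh : Commute x h := commute_of_mem_centralizer (thetaOf_le r C hxY.1)
        have hq' : q = h * o⁻¹ := by rw [e', mul_inv_cancel_right]
        rw [hq', show x * (h * o⁻¹) * x⁻¹ * (h * o⁻¹)⁻¹ =
          (x * h * x⁻¹) * ((x * o⁻¹ * x⁻¹) * o) * h⁻¹ by group, conj_eq_of_commute hxh]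
        exact conj_mem_oddOf (le_normalizer hhH)
          (mul_mem (conj_mem_oddOf (le_normalizer hxY.2) (inv_mem ho)) ho)
      obtain ⟨k, hk⟩ := S.facts.cent H N d.Z hHtop hI (d.elabMod hZH) hle hrk q hq hqO x hxN hxo hxq
      have hcop : (r ^ k).Coprime (orderOf x) :=
        ((hYc.coprime_dvd_left (orderOf_dvd_natCard Y hxY)).pow_right k).symm
      obtain ⟨m, hm⟩ := exists_pow_eq_self_of_coprime hcop
      exact hm ▸ pow_mem hk m
  have hYO : Y ≤ oddOf H := fun y hy =>
    mem_oddOf_of_mem_sup hZH d.pow (d.self_centralizing S hHtop hc hZH hy.2 (hcomm y hy))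
      (hYc.coprime_dvd_left (orderOf_dvd_natCard Y hy))
  -- apply balance in the odd group `O(H)⟨h⟩`
  set H' := oddOf H ⊔ zpowers h with hH'
  have hH'H : H' ≤ H := sup_le (oddOf_le H) (zpowers_le.2 hhH)
  have hH'o : Odd (Nat.card H') := by
    rw [← Nat.coprime_two_right, hH', sup_comm]
    exact CfsgLib.Core.coprime_card_sup
      ((zpowers_le.2 hhH).trans (le_normalizer_oddOf H))
      (Nat.coprime_two_right.2 (Setting.odd_of_pGroup S.odd hh))
      (Nat.coprime_two_right.2 (odd_oddOf H))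
  have hcH' : Constrained r H' := fun x hx hx2 => involution_ne_one hx2
    ((twoElt_of_involution hx2).eq_one_of_mem hH'o hx.1)
  have h1 : Y ≤ thetaOf r H' := balance S.odd hcH' (mem_sup_right (mem_zpowers h)) hh
    (hYO.trans le_sup_left) hYc (inf_le_left.trans (thetaOf_le r C))
    ((le_inf inf_le_right (inf_le_left.trans hH'H)).trans hnorm)
  refine le_trans (le_inf h1 hYO) (le_thetaOf inf_le_right
    ((le_inf ((le_sup_left : oddOf H ≤ H').trans (le_normalizer_thetaOf r H')) le_normalizer).trans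
      CfsgLib.Transfer.normalizer_le_normalizer_inf)
    ((coprime_thetaOf r H').coprime_dvd_left (card_dvd_of_le inf_le_left)))

/-- The signalizer. -/
noncomputable def W : Subgroup G :=
  ⨆ a : {a : G // a ∈ d.Z ∧ a ≠ 1}, thetaOf r (centralizer ({(a : G)} : Set G))

theorem theta_le_W {a : G} (ha : a ∈ d.Z) (ha1 : a ≠ 1) :
    thetaOf r (centralizer ({a} : Set G)) ≤ d.W :=
  le_iSup (fun b : {a : G // a ∈ d.Z ∧ a ≠ 1} => thetaOf r (centralizer ({(b : G)} : Set G)))
    ⟨a, ha, ha1⟩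

theorem W_spec (S : Std G r) : ¬ r ∣ Nat.card d.W ∧ ∀ a ∈ d.Z, a ≠ 1 →
    d.W ⊓ centralizer ({a} : Set G) = thetaOf r (centralizer ({a} : Set G)) :=
  Cfsg.Agent.S0217.result d.Z d.comm d.pow (d.rank_three S)
    (fun a => thetaOf r (centralizer ({a} : Set G))) (fun _ _ _ => thetaOf_le r _)
    (fun _ _ _ => not_dvd_thetaOf r _)
    (fun a ha _ b hb _ hx => conj_mem_thetaOf (le_normalizer (d.mem_centralizer hb ha)) hx)
    (fun _ _ _ => CfsgLib.OddLocal.FTFinal.odd_order_solvable (odd_thetaOf r _))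
    (fun a ha _ b hb hb1 => d.balance_pair S (d.isP.to_le (zpowers_le.2 ha))
      (fun c hc => d.comm a ha c hc) hb hb1)

theorem normalizer_le_normalizer_W : normalizer (d.Z : Set G) ≤ normalizer (d.W : Set G) := by
  intro g hg
  refine mem_normalizer_of_conj fun x hx => ?_
  have h : d.W.map (MulAut.conj g).toMonoidHom ≤ d.W := by
    rw [AZ.W, Subgroup.map_iSup]
    refine iSup_le fun a => ?_
    have ha' : g * a.1 * g⁻¹ ∈ d.Z := (mem_normalizer_iff.1 hg a.1).1 a.2.1
    have ha1 : g * a.1 * g⁻¹ ≠ 1 := fun e => a.2.2 (conj_eq_one_iff.1 e)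
    refine le_trans ?_ (d.theta_le_W ha' ha1)
    set T := thetaOf r (centralizer ({a.1} : Set G)) with hT
    refine le_thetaOf' ?_ ?_ (by rw [CfsgLib.Transfer.card_map_conj]; exact odd_thetaOf r _)
      (by rw [CfsgLib.Transfer.card_map_conj]; exact coprime_thetaOf r _)
    · rintro _ ⟨y, hy, rfl⟩
      exact mem_centralizer_of_commute
        ((commute_of_mem_centralizer (thetaOf_le r _ hy)).map (MulAut.conj g).toMonoidHom)
    · intro c hc
      refine mem_normalizer_of_conj fun w hw => ?_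
      obtain ⟨y, hy, rfl⟩ := hw
      have hc' : g⁻¹ * c * g ∈ centralizer ({a.1} : Set G) := mem_centralizer_of_commute (by
        have := (commute_of_mem_centralizer hc).map (MulAut.conj g⁻¹).toMonoidHom
        simpa [MulAut.conj_apply, mul_assoc] using this)
      refine ⟨(g⁻¹ * c * g) * y * (g⁻¹ * c * g)⁻¹, conj_mem_thetaOf (le_normalizer hc') hy, ?_⟩
      show g * ((g⁻¹ * c * g) * y * (g⁻¹ * c * g)⁻¹) * g⁻¹ = c * (g * y * g⁻¹) * c⁻¹
      group
  exact h (CfsgLib.Transfer.conj_mem_map_conj hx)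

theorem le_normalizer_W : d.Z ≤ normalizer (d.W : Set G) :=
  le_normalizer.trans d.normalizer_le_normalizer_W

theorem sq_le_card (S : Std G r) : r ^ 2 ≤ Nat.card d.Z :=
  (Nat.pow_le_pow_right (Fact.out : r.Prime).pos (by norm_num)).trans (d.rank_three S)

theorem W_odd (S : Std G r) : Odd (Nat.card d.W) := by
  obtain ⟨hW, hWfix⟩ := d.W_spec S
  haveI : IsMulCommutative d.Z := ⟨⟨fun x y => Subtype.ext (d.comm _ x.2 _ y.2)⟩⟩
  have hcop : (Nat.card d.Z).Coprime (Nat.card d.W) := by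
    obtain ⟨k, hk⟩ := IsPGroup.iff_card.1 d.isP
    exact hk ▸ ((Fact.out : r.Prime).coprime_iff_not_dvd.2 hW).pow_left k
  haveI : Fact (Nat.Prime 2) := ⟨Nat.prime_two⟩
  obtain ⟨P, hP⟩ := CfsgLib.Core.exists_invariant_sylow d.le_normalizer_W hcop
    (Or.inl (CfsgLib.OddLocal.FTFinal.odd_order_solvable (d.odd_card S.odd))) 2
  set T := (P : Subgroup d.W).map d.W.subtype with hT
  have hTW : T ≤ d.W := map_subtype_le _
  have hT2 : IsPGroup 2 T := P.2.map _
  have hT1 : T ≤ ⊥ := CfsgLib.LocalEven.le_of_centralizers_le (p := r) d.pow (d.sq_le_card S) hP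
    (fun h => hW (h.trans (card_dvd_of_le hTW))) fun a ha ha1 x hx => mem_bot.2
      ((twoElt_of_mem hT2 hx.1).eq_one_of_mem (odd_thetaOf r (centralizer ({a} : Set G)))
        (hWfix a ha ha1 ▸ (⟨hTW hx.1, hx.2⟩ : x ∈ d.W ⊓ centralizer ({a} : Set G))))
  by_contra hev
  have h2 : 2 ∣ Nat.card d.W := even_iff_two_dvd.1 (Nat.not_odd_iff_even.1 hev)
  have hcard : Nat.card T = 1 := by rw [le_bot_iff.1 hT1, card_bot]
  rw [hT, card_map_of_injective d.W.subtype_injective, P.card_eq_multiplicity] at hcard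
  have := Nat.prime_two.factorization_pos_of_dvd Nat.card_pos.ne' h2
  rw [Nat.pow_eq_one] at hcard
  omega

/-- The subgroup `W N(Z)`. -/
noncomputable def M : Subgroup G := d.W ⊔ normalizer (d.Z : Set G)

theorem M_ne_top (S : Std G r) : d.M ≠ ⊤ := by
  intro h
  haveI := S.simple
  have hn : normalizer (d.W : Set G) = ⊤ :=
    top_le_iff.1 (h ▸ sup_le le_normalizer d.normalizer_le_normalizer_W)
  rw [normalizer_eq_top_iff] at hn
  rcases hn.eq_bot_or_eq_top with e | e
  · refine d.normalizer_ne_top S ?_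
    rwa [AZ.M, e, bot_sup_eq] at h
  · have h1 := d.W_odd S
    rw [e, card_top] at h1
    exact (Nat.not_even_iff_odd.2 h1) (even_iff_two_dvd.2 (d.rot.ht ▸ orderOf_dvd_natCard d.t))

/-- Constrained centralisers lie in `M`. -/
theorem centralizer_le_M (S : Std G r) {c : G} (hc : c ∈ d.Z) (hc1 : c ≠ 1)
    (hcc : Constrained r (centralizer ({c} : Set G))) : centralizer ({c} : Set G) ≤ d.M :=
  ((d.factor S hcc fun _ ha => d.mem_centralizer ha hc).1).trans
    (sup_le_sup (d.theta_le_W hc hc1) inf_le_right)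

/-- The signalizer contains `O_{r'}(O(C(h)))` for `r`-elements centralising `Z`. -/
theorem theta_le_W' (S : Std G r) {h : G} (hh : IsPGroup r (zpowers h))
    (hhZ : ∀ a ∈ d.Z, Commute h a) : thetaOf r (centralizer ({h} : Set G)) ≤ d.W := by
  haveI : IsMulCommutative d.Z := ⟨⟨fun x y => Subtype.ext (d.comm _ x.2 _ y.2)⟩⟩
  refine CfsgLib.LocalEven.le_of_centralizers_le (p := r) d.pow (d.sq_le_card S)
    (fun a ha => le_normalizer_thetaOf r _ (mem_centralizer_of_commute (hhZ a ha).symm))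
    (not_dvd_thetaOf r _) fun a ha ha1 => (d.balance_pair S hh hhZ ha ha1).trans (d.theta_le_W ha ha1)

/-- A constrained centraliser of an `r`-element centralising `Z` lies in `M`. -/
theorem centralizer_le_M' (S : Std G r) {h : G} (hh : IsPGroup r (zpowers h))
    (hhZ : ∀ a ∈ d.Z, Commute h a) (hhc : Constrained r (centralizer ({h} : Set G))) :
    centralizer ({h} : Set G) ≤ d.M :=
  ((d.factor S hhc fun a ha => mem_centralizer_of_commute (hhZ a ha).symm).1).trans
    (sup_le_sup (d.theta_le_W' S hh hhZ) inf_le_right)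

end AZ

end CfsgLib.GW.Sig
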