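import Cfsg.Agent.Lib.GW.Sig.Context

/-!
# An invariant elementary abelian subgroup moved by the four-group

`AZ` is the datum: a weakly closed elementary abelian `r`-subgroup `Z`, normalised but not
centralised by a rotated four-group.
-/

set_option autoImplicit false

namespace CfsgLib.GW.Sig

open Subgroup Cfsg
open scoped Pointwise
open CfsgLib.Signalizer (involution_sq involution_inv involution_ne_one orderOf_conj)

universe u

variable {G : Type u} [Group G] [Finite G] {r : ℕ} [Fact r.Prime]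

/-- The standing hypotheses on `G` and `r`. -/
structure Std (G : Type u) [Group G] [Finite G] (r : ℕ) where
  base : Base G
  facts : KFacts G r
  odd : r ≠ 2
  noQd : CfsgLib.PLocal.SLTwo.NoQd r G
  simple : IsSimpleGroup G

/-- The data of the abelian case. -/
structure AZ (G : Type u) [Group G] (r : ℕ) where
  Z : Subgroup G
  t : G
  u : G
  g : G
  rot : Rot t u g
  ht : t ∈ normalizer (Z : Set G)
  hu : u ∈ normalizer (Z : Set G)
  hg : g ∈ normalizer (Z : Set G)
  comm : ∀ a ∈ Z, ∀ b ∈ Z, a * b = b * a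
  pow : ∀ a ∈ Z, a ^ r = 1
  wc : WClosed r Z
  not_cent : ¬ ∀ a ∈ Z, Commute t a ∧ Commute u a

namespace AZ

variable (d : AZ G r)

theorem isP : IsPGroup r d.Z := fun a => ⟨1, Subtype.ext (by simpa using d.pow _ a.2)⟩

theorem mem_centralizer {a b : G} (ha : a ∈ d.Z) (hb : b ∈ d.Z) :
    a ∈ centralizer ({b} : Set G) :=
  mem_centralizer_of_commute (d.comm a ha b hb)

/-- The datum seen from the next involution of the four-group. -/
def next (d : AZ G r) : AZ G r where
  Z := d.Z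
  t := d.u
  u := d.t * d.u
  g := d.g
  rot := d.rot.next
  ht := d.hu
  hu := mul_mem d.ht d.hu
  hg := d.hg
  comm := d.comm
  pow := d.pow
  wc := d.wc
  not_cent := fun h => d.not_cent fun a ha => ⟨by
    have h1 := (h a ha).2.mul_left (h a ha).1
    rwa [mul_assoc, involution_sq d.rot.hu, mul_one] at h1, (h a ha).1⟩

theorem ne_bot : d.Z ≠ ⊥ := fun e => d.not_cent fun a ha => by
  rw [e, mem_bot] at ha; subst ha; exact ⟨Commute.one_right _, Commute.one_right _⟩

theorem odd_card (hr : r ≠ 2) : Odd (Nat.card d.Z) := Setting.odd_of_pGroup hr d.isP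

theorem normalizer_ne_top (S : Std G r) : normalizer (d.Z : Set G) ≠ ⊤ :=
  haveI := S.simple
  Sig.normalizer_ne_top d.ne_bot (d.odd_card S.odd) (d.rot.ht ▸ orderOf_dvd_natCard d.t)

include d in
theorem centralizer_ne_top (S : Std G r) {a : G} (ha : a ≠ 1) :
    centralizer ({a} : Set G) ≠ ⊤ := by
  haveI := S.simple
  intro h
  have hac : a ∈ center G := mem_center_iff.2 fun x =>
    mem_centralizer_singleton_iff.1 (h ▸ mem_top x)
  rcases (show (center G).Normal from inferInstance).eq_bot_or_eq_top with e | e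
  · exact ha (mem_bot.1 (e ▸ hac))
  · have h2 : normalizer (d.Z : Set G) = ⊤ := by
      refine eq_top_iff.2 fun x _ => mem_normalizer_of_conj fun y hy => ?_
      rw [conj_eq_of_commute (show Commute x y from mem_center_iff.1 (e ▸ mem_top y) x)]
      exact hy
    exact d.normalizer_ne_top S h2

theorem pieces (hr : r ≠ 2) :
    (∃ a, a ≠ 1 ∧ Piece d.t d.u d.Z a) ∧ (∃ a, a ≠ 1 ∧ Piece d.u d.t d.Z a) ∧
      (∃ a, a ≠ 1 ∧ Piece (d.t * d.u) d.t d.Z a) :=
  three_pieces (d.odd_card hr) d.rot d.ht d.hu d.hg d.not_cent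

/-- No involution centralises `Z`. -/
theorem not_commute_all (S : Std G r) {x : G} (hx : orderOf x = 2) :
    ¬ ∀ a ∈ d.Z, Commute x a := by
  intro hall
  set C := centralizer (d.Z : Set G) with hC
  have hCn : normalizer (d.Z : Set G) ≤ normalizer (C : Set G) :=
    CfsgLib.Signalizer.normalizer_le_normalizer_centralizer_set d.Z
  have hCe : ¬ Odd (Nat.card C) := fun ho => involution_ne_one hx
    ((twoElt_of_involution hx).eq_one_of_mem ho (mem_centralizer_iff.2 fun a ha => (hall a ha).eq.symm))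
  have hgC : ∀ {w : G}, w ∈ C → d.g * w * d.g⁻¹ ∈ C := fun hw =>
    (mem_normalizer_iff.1 (hCn d.hg) _).1 hw
  have hgtu : d.g * (d.t * d.u) * d.g⁻¹ = d.t := by
    rw [show d.g * (d.t * d.u) * d.g⁻¹ = d.g * d.t * d.g⁻¹ * (d.g * d.u * d.g⁻¹) by group,
      d.rot.conj1, d.rot.conj2, ← mul_assoc, ← d.rot.comm.eq, mul_assoc, involution_sq d.rot.hu,
      mul_one]
  have htu : d.t ∈ C ∧ d.u ∈ C := by
    rcases S.base.four_meets hCe d.rot.ht d.rot.hu d.rot.ne d.rot.comm (hCn d.ht) (hCn d.hu) with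
      h | h | h
    · exact ⟨h, d.rot.conj1 ▸ hgC h⟩
    · exact ⟨hgtu ▸ hgC (d.rot.conj2 ▸ hgC h), h⟩
    · have h' := hgtu ▸ hgC h
      exact ⟨h', d.rot.conj1 ▸ hgC h'⟩
  exact d.not_cent fun a ha =>
    ⟨(mem_centralizer_iff.1 htu.1 a ha).symm, (mem_centralizer_iff.1 htu.2 a ha).symm⟩

/-- Involutions of the inner part do not centralise `Z` modulo the core. -/
theorem not_commute_mod (S : Std G r) {H : Subgroup G} (hZH : d.Z ≤ H) {x : G} (hx : x ∈ inner r H)
    (hxo : orderOf x = 2) : ¬ ∀ a ∈ d.Z, x * a * x⁻¹ * a⁻¹ ∈ oddOf H := by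
  intro hall
  have h2 := twoElt_of_involution hxo
  have hxH := inner_le r H hx
  have hfix : ∀ a ∈ d.Z, a * x * a⁻¹ * x⁻¹ ∈ thetaOf r H := fun a ha =>
    comm_mem_thetaOf (mem_fixCore_of_inner hx h2) h2 (le_normalizer (hZH ha)) (by
      rw [show a * x * a⁻¹ * x⁻¹ = (x * a * x⁻¹ * a⁻¹)⁻¹ by group]
      exact inv_mem (hall a ha))
  obtain ⟨k, hk⟩ := IsPGroup.iff_card.1 d.isP
  obtain ⟨y, -, hyC, -, -, hyo⟩ := exists_lift (hZH.trans le_normalizer)
    (hk ▸ ((coprime_thetaOf r H).pow_right k).symm) hxH h2 hfix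
  exact d.not_commute_all S (hyo hxo) fun a ha => (mem_centralizer_iff.1 hyC a ha).symm

/-- A constrained centraliser factorises over `N(Z)`. -/
theorem factor (S : Std G r) {H : Subgroup G} (hH : Constrained r H) (hZH : d.Z ≤ H) :
    H ≤ thetaOf r H ⊔ (H ⊓ normalizer (d.Z : Set G)) ∧
      H ≤ normalizer ((thetaOf r H ⊔ d.Z : Subgroup G) : Set G) :=
  factor_of_wclosed S.odd S.noQd hH d.isP d.wc d.comm hZH

/-- An element of `Z` in the core of a subgroup which is not constrained has no constrained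
centraliser. -/
theorem hammer (S : Std G r) {H : Subgroup G} (hH : ¬ Constrained r H) (hZH : d.Z ≤ H) {y : G}
    (hy : y ∈ d.Z) (hyO : y ∈ oddOf H) (hyc : Constrained r (centralizer ({y} : Set G))) : False := by
  set C := centralizer ({y} : Set G) with hC
  have hZC : d.Z ≤ C := fun a ha => d.mem_centralizer ha hy
  obtain ⟨-, hQn⟩ := d.factor S hyc hZC
  set Q := (thetaOf r C ⊔ d.Z) ⊓ H with hQ
  have hQo : Odd (Nat.card Q) := by
    refine Odd.of_dvd_nat ?_ (card_dvd_of_le inf_le_left)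
    rw [← Nat.coprime_two_right, sup_comm]
    exact CfsgLib.Core.coprime_card_sup (hZC.trans (le_normalizer_thetaOf r C))
      (Nat.coprime_two_right.2 (d.odd_card S.odd)) (Nat.coprime_two_right.2 (odd_thetaOf r C))
  have hinv : ∀ x ∈ inner r H, TwoElt x → ∀ q ∈ Q, x * q * x⁻¹ ∈ Q ⊔ oddOf H := by
    intro x hx h2 q hq
    have hxf := mem_fixCore_of_inner hx h2
    have hcop : (Nat.card (zpowers y)).Coprime (Nat.card (thetaOf r H)) := by
      refine Nat.Coprime.coprime_dvd_left (card_dvd_of_le (zpowers_le.2 hy)) ?_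
      obtain ⟨k, hk⟩ := IsPGroup.iff_card.1 d.isP
      exact hk ▸ ((coprime_thetaOf r H).pow_right k).symm
    obtain ⟨x', hx'H, hx'C, -, hx'θ, -⟩ := exists_lift (B := zpowers y)
      (zpowers_le.2 (le_normalizer (hZH hy))) hcop hxf.1 h2 (by
        intro b hb
        rw [show b * x * b⁻¹ * x⁻¹ = (x * b * x⁻¹ * b⁻¹)⁻¹ by group]
        exact inv_mem (hxf.2 b (zpowers_le.2 hyO hb)))
    have hx'C' : x' ∈ C :=
      mem_centralizer_of_commute (mem_centralizer_iff.1 hx'C y (mem_zpowers y)).symm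
    have h1 : x' * q * x'⁻¹ ∈ Q :=
      Subgroup.mem_inf.2 ⟨(mem_normalizer_iff.1 (hQn hx'C') q).1 hq.1, mul_mem (mul_mem hx'H hq.2) (inv_mem hx'H)⟩
    have ho : x * x'⁻¹ ∈ oddOf H := thetaOf_le_oddOf r H (by
      rw [show x * x'⁻¹ = (x' * x⁻¹)⁻¹ by group]; exact inv_mem hx'θ)
    rw [show x * q * x⁻¹ = (x * x'⁻¹) * (x' * q * x'⁻¹) * (x * x'⁻¹)⁻¹ by group]
    exact mul_mem (mul_mem (mem_sup_right ho) (mem_sup_left h1)) (mem_sup_right (inv_mem ho))
  simp only [Constrained, not_forall, not_not] at hH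
  obtain ⟨x, hx, hxo⟩ := hH
  have hxN : x ∈ inner r H := mem_sup_right (subset_closure ⟨hx, twoElt_of_involution hxo⟩)
  exact d.not_commute_mod S hZH hxN hxo fun a ha =>
    comm_mem_oddOf (innerLike (by simp only [Constrained, not_forall, not_not]; exact ⟨x, hx, hxo⟩))
      inf_le_right hQo hinv hxN (twoElt_of_involution hxo) ⟨mem_sup_right ha, hZH ha⟩

/-- A four-group cannot centralise a hyperplane of `Z` while normalising `Z`. -/
theorem no_four_in_normalizer (S : Std G r) {K : Subgroup G} (hKZ : K ≤ d.Z)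
    (hK : Nat.card d.Z ≤ r * Nat.card K) {x y : G} (hx : orderOf x = 2) (hy : orderOf y = 2)
    (hne : x ≠ y) (hc : Commute x y) (hxZ : x ∈ normalizer (d.Z : Set G))
    (hyZ : y ∈ normalizer (d.Z : Set G)) (hxK : ∀ a ∈ K, Commute x a)
    (hyK : ∀ a ∈ K, Commute y a) : False := by
  have hxyo : orderOf (x * y) = 2 :=
    CfsgLib.Signalizer.orderOf_eq_two_of
      (fun e => hne ((mul_eq_one_iff_eq_inv.1 e).trans (involution_inv hy)))
      (by rw [← pow_two, hc.mul_pow, pow_two, pow_two, involution_sq hx, involution_sq hy, mul_one])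
  -- the fixed points of each involution are exactly `K`
  have hfix : ∀ w : G, orderOf w = 2 → (∀ a ∈ K, Commute w a) →
      ∀ a ∈ d.Z, Commute w a → a ∈ K := by
    intro w hw hwK a ha hwa
    by_contra haK
    set L := d.Z ⊓ centralizer ({w} : Set G) with hL
    have h1 : K < L := by
      refine lt_of_le_of_ne (fun b hb => ⟨hKZ hb, mem_centralizer_of_commute (hwK b hb).symm⟩)
        fun e => haK ?_
      rw [e]; exact ⟨ha, mem_centralizer_of_commute hwa.symm⟩
    have h2 := card_mul_le_of_lt (d.isP.to_le inf_le_left) h1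
    have h3 : L = d.Z := eq_of_le_of_card_ge inf_le_left (hK.trans h2)
    refine d.not_commute_all S hw fun b hb => (commute_of_mem_centralizer ?_).symm
    exact ((h3.ge : d.Z ≤ L) hb).2
  obtain ⟨a, ha, hxa⟩ : ∃ a ∈ d.Z, ¬ Commute x a := by
    simpa using d.not_commute_all S hx
  set e := a⁻¹ * (x * a * x⁻¹) with he
  have heZ : e ∈ d.Z := mul_mem (inv_mem ha) ((mem_normalizer_iff.1 hxZ a).1 ha)
  have hxe : x * e * x⁻¹ = e⁻¹ := by
    rw [he, involution_inv hx, show x * (a⁻¹ * (x * a * x)) * x = x * a⁻¹ * x * a * (x * x) by group,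
      involution_sq hx, mul_one, mul_inv_rev, inv_inv, mul_inv_rev, mul_inv_rev, involution_inv hx]
    simp only [mul_assoc]
  have he1 : e ≠ 1 := fun h => hxa (commute_of_conj_eq (inv_mul_eq_one.1 h).symm)
  have heo : Odd (orderOf e) := odd_orderOf_of_mem (d.odd_card S.odd) heZ
  have heK : ∀ w, orderOf w = 2 → (∀ a ∈ K, Commute w a) → ¬ Commute w e := fun w hw hwK h =>
    he1 (eq_one_of_inv_self heo (by rw [← hxe, conj_eq_of_commute (hxK e (hfix w hw hwK e heZ h))]))
  -- `f` measures the action of `y` on `e`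
  set f := e * (y * e * y⁻¹) with hf
  have hfZ : f ∈ d.Z := mul_mem heZ ((mem_normalizer_iff.1 hyZ e).1 heZ)
  have hxf : x * f * x⁻¹ = f⁻¹ := by
    rw [hf, show x * (e * (y * e * y⁻¹)) * x⁻¹ = (x * e * x⁻¹) * ((x * y) * e * (x * y)⁻¹) by group,
      hc.eq, show (y * x) * e * (y * x)⁻¹ = y * (x * e * x⁻¹) * y⁻¹ by group, hxe,
      show y * e⁻¹ * y⁻¹ = (y * e * y⁻¹)⁻¹ by group, mul_inv_rev e]
    exact d.comm _ (inv_mem heZ) _ (inv_mem ((mem_normalizer_iff.1 hyZ e).1 heZ))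
  have hyf : Commute y f := by
    refine commute_of_conj_eq ?_
    rw [hf, show y * (e * (y * e * y⁻¹)) * y⁻¹ = (y * e * y⁻¹) * ((y * y) * e * (y * y)⁻¹) by group,
      involution_sq hy, one_mul, inv_one, mul_one]
    exact d.comm _ ((mem_normalizer_iff.1 hyZ e).1 heZ) _ heZ
  have hf1 : f = 1 :=
    eq_one_of_inv_self (odd_orderOf_of_mem (d.odd_card S.odd) hfZ)
      (by rw [← hxf, conj_eq_of_commute (hxK f (hfix y hy hyK f hfZ hyf))])
  refine heK (x * y) hxyo (fun b hb => (hxK b hb).mul_left (hyK b hb)) (commute_of_conj_eq ?_)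
  rw [show x * y * e * (x * y)⁻¹ = x * (y * e * y⁻¹) * x⁻¹ by group,
    show y * e * y⁻¹ = e⁻¹ from eq_inv_of_mul_eq_one_right hf1,
    show x * e⁻¹ * x⁻¹ = (x * e * x⁻¹)⁻¹ by group, hxe, inv_inv]

/-- A four-group centralising a hyperplane `K` with a constrained centraliser cannot exist. -/
theorem no_four_constrained (S : Std G r) {K : Subgroup G} (hKZ : K ≤ d.Z)
    (hK : Nat.card d.Z ≤ r * Nat.card K) {x y : G} (hx : orderOf x = 2) (hy : orderOf y = 2)
    (hne : x ≠ y) (hc : Commute x y) (hxK : ∀ a ∈ K, Commute x a) (hyK : ∀ a ∈ K, Commute y a)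
    {k₀ : G} (hk₀ : k₀ ∈ K) (hk₀c : Constrained r (centralizer ({k₀} : Set G))) : False := by
  classical
  set C := centralizer ({k₀} : Set G) with hC
  have hZC : d.Z ≤ C := fun a ha => d.mem_centralizer ha (hKZ hk₀)
  obtain ⟨-, hQn⟩ := d.factor S hk₀c hZC
  set θ := thetaOf r C with hθ
  set P := four x y with hP
  have hPC : P ≤ C := four_le (mem_centralizer_of_commute (hxK _ hk₀))
    (mem_centralizer_of_commute (hyK _ hk₀))
  have hcop : (Nat.card P).Coprime (Nat.card θ) := by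
    obtain ⟨k, hk⟩ := IsPGroup.iff_card.1 (isPGroup_four hx hy hc)
    exact hk ▸ (Nat.coprime_two_left.2 (odd_thetaOf r C)).pow_left k
  have hθn := hPC.trans (le_normalizer_thetaOf r C)
  have hconj : ∀ p ∈ P, ∃ k ∈ θ, MulAut.conj p • d.Z = MulAut.conj k • d.Z := by
    intro p hp
    have hle : MulAut.conj p • d.Z ≤ d.Z ⊔ θ := by
      intro w hw
      rw [CfsgLib.Core.mem_conj_smul_iff] at hw
      have h2 := (mem_normalizer_iff.1 (hQn (hPC hp)) _).1 (mem_sup_right hw)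
      rw [sup_comm]
      simpa [mul_assoc] using h2
    obtain ⟨e, he⟩ := IsPGroup.iff_card.1 d.isP
    obtain ⟨k, hk, hkZ⟩ := CfsgLib.Core.exists_conj_eq_of_coprime
      (hZC.trans (le_normalizer_thetaOf r C)) hle (CfsgLib.Core.card_conj_smul _ _)
      (he ▸ ((coprime_thetaOf r C).pow_right e).symm)
      (Or.inl (CfsgLib.OddLocal.FTFinal.odd_order_solvable (odd_thetaOf r C)))
    exact ⟨k, hk, hkZ.symm⟩
  obtain ⟨k, hk, hkP⟩ := CfsgLib.Core.exists_invariant_conj hθn hcop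
    (Or.inr (CfsgLib.OddLocal.FTFinal.odd_order_solvable (odd_thetaOf r C))) (P := d.Z) hconj
  -- the conjugates by `k⁻¹` normalise `Z` and centralise `K`
  have key : ∀ p ∈ P, (∀ a ∈ K, Commute p a) →
      k⁻¹ * p * k ∈ normalizer (d.Z : Set G) ∧ ∀ a ∈ K, Commute (k⁻¹ * p * k) a := by
    intro p hp hpK
    have hn : k⁻¹ * p * k ∈ normalizer (d.Z : Set G) := mem_normalizer_of_conj fun z hz => by
      have h1 := (mem_normalizer_iff.1 (hkP hp) _).1 (CfsgLib.Core.conj_mem_conj_smul (g := k) hz)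
      rw [CfsgLib.Core.mem_conj_smul_iff] at h1
      simpa [mul_assoc] using h1
    refine ⟨hn, fun a ha => commute_of_conj_eq ?_⟩
    refine mul_inv_eq_one.1 (eq_one_of_mem_thetaOf (r := r) (H := C) d.isP
      (mul_mem ((mem_normalizer_iff.1 hn a).1 (hKZ ha)) (inv_mem (hKZ ha))) ?_)
    have haC : a ∈ C := hZC (hKZ ha)
    have hθp : ∀ {q : G}, q ∈ C → ∀ {w : G}, w ∈ θ → q * w * q⁻¹ ∈ θ := fun hq _ hw =>
      conj_mem_thetaOf (le_normalizer hq) hw
    have e1 : k⁻¹ * p * k * a * (k⁻¹ * p * k)⁻¹ * a⁻¹ =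
        k⁻¹ * (p * k * p⁻¹) * (a * (p * k⁻¹ * p⁻¹ * k) * a⁻¹) := by
      have hpa : p * a = a * p := (hpK a ha).eq
      calc k⁻¹ * p * k * a * (k⁻¹ * p * k)⁻¹ * a⁻¹
          = k⁻¹ * (p * k * p⁻¹) * (p * a) * k⁻¹ * p⁻¹ * k * a⁻¹ := by group
        _ = k⁻¹ * (p * k * p⁻¹) * (a * p) * k⁻¹ * p⁻¹ * k * a⁻¹ := by rw [hpa]
        _ = _ := by group
    rw [e1]
    exact mul_mem (mul_mem (inv_mem hk) (hθp (hPC hp) hk))
      (hθp haC (mul_mem (hθp (hPC hp) (inv_mem hk)) hk))
  obtain ⟨hx1, hx2⟩ := key x (subset_closure (by simp)) hxK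
  obtain ⟨hy1, hy2⟩ := key y (subset_closure (by simp)) hyK
  refine d.no_four_in_normalizer S hKZ hK ?_ ?_
    (fun e => hne (mul_left_cancel (mul_right_cancel e))) ?_ hx1 hy1 hx2 hy2
  · have := orderOf_conj k⁻¹ x; rw [inv_inv] at this; rw [this]; exact hx
  · have := orderOf_conj k⁻¹ y; rw [inv_inv] at this; rw [this]; exact hy
  · have := hc.map (MulAut.conj k⁻¹).toMonoidHom
    simpa using this

/-- Two commuting involutions of the inner part fixing `A` modulo the core lift to a four-group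
centralising `A`. -/
theorem exists_four_lift {H A : Subgroup G} (hr : r ≠ 2) (hAH : A ≤ H) (hA : IsPGroup r A) {x y : G}
    (hx : x ∈ inner r H) (hy : y ∈ inner r H) (hxo : orderOf x = 2) (hyo : orderOf y = 2)
    (hne : x ≠ y) (hc : Commute x y) (hxA : ∀ a ∈ A, x * a * x⁻¹ * a⁻¹ ∈ oddOf H)
    (hyA : ∀ a ∈ A, y * a * y⁻¹ * a⁻¹ ∈ oddOf H) :
    ∃ x' y' : G, orderOf x' = 2 ∧ orderOf y' = 2 ∧ x' ≠ y' ∧ Commute x' y' ∧
      x' ∈ inner r H ∧ y' ∈ inner r H ∧
      (∀ a ∈ A, Commute x' a) ∧ (∀ a ∈ A, Commute y' a) := by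
  have hx2 := twoElt_of_involution hxo
  have hy2 := twoElt_of_involution hyo
  have hθ : ∀ {w : G}, w ∈ inner r H → TwoElt w → (∀ a ∈ A, w * a * w⁻¹ * a⁻¹ ∈ oddOf H) →
      ∀ a ∈ A, a * w * a⁻¹ * w⁻¹ ∈ thetaOf r H := fun {w} hw h2 hwA a ha =>
    comm_mem_thetaOf (mem_fixCore_of_inner hw h2) h2 (le_normalizer (hAH ha)) (by
      rw [show a * w * a⁻¹ * w⁻¹ = (w * a * w⁻¹ * a⁻¹)⁻¹ by group]
      exact inv_mem (hwA a ha))
  have hodd : Odd (Nat.card A) := Setting.odd_of_pGroup hr hA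
  obtain ⟨k, hk⟩ := IsPGroup.iff_card.1 hA
  have hcopA : (Nat.card A).Coprime (Nat.card (thetaOf r H)) :=
    hk ▸ ((coprime_thetaOf r H).pow_right k).symm
  have hθN : thetaOf r H ≤ inner r H := (thetaOf_le_oddOf r H).trans le_sup_left
  obtain ⟨x', hx'H, hx'A, -, hx'θ, hx'o⟩ := exists_lift (hAH.trans le_normalizer) hcopA
    (inner_le r H hx) hx2 (hθ hx hx2 hxA)
  have hx'o := hx'o hxo
  have hx'N : x' ∈ inner r H := by
    simpa using mul_mem (hθN hx'θ) hx
  set B := A ⊔ zpowers x' with hB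
  have hBH : B ≤ normalizer (H : Set G) :=
    sup_le (hAH.trans le_normalizer) (zpowers_le.2 (le_normalizer hx'H))
  have hAx : A ≤ normalizer ((zpowers x' : Subgroup G) : Set G) := fun a ha =>
    mem_normalizer_of_conj fun w hw => by
      obtain ⟨j, rfl⟩ := hw
      rw [conj_eq_of_commute ((show Commute a x' from mem_centralizer_iff.1 hx'A a ha).zpow_right j)]
      exact ⟨j, rfl⟩
  have hcopB : (Nat.card B).Coprime (Nat.card (thetaOf r H)) := by
    refine CfsgLib.Core.coprime_card_sup hAx hcopA ?_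
    rw [Nat.card_zpowers, hx'o]
    exact Nat.coprime_two_left.2 (odd_thetaOf r H)
  have hBfix : ∀ b ∈ B, b * y * b⁻¹ * y⁻¹ ∈ thetaOf r H := by
    intro b hb
    obtain ⟨a, ha, z, hz, rfl⟩ := (CfsgLib.Core.mem_sup_iff_mul hAx).1 hb
    have hzy : z * y * z⁻¹ * y⁻¹ ∈ thetaOf r H := by
      obtain ⟨j, rfl⟩ := hz
      have hxy : ∀ n : ℤ, x' ^ n * y * (x' ^ n)⁻¹ * y⁻¹ ∈ thetaOf r H := by
        have h1 : x' * y * x'⁻¹ * y⁻¹ ∈ thetaOf r H := by
          have e : x' * y * x'⁻¹ * y⁻¹ =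
              (x' * x⁻¹) * (y * (x' * x⁻¹)⁻¹ * y⁻¹) := by
            rw [show (x' * x⁻¹) * (y * (x' * x⁻¹)⁻¹ * y⁻¹) = x' * x⁻¹ * (y * x) * x'⁻¹ * y⁻¹ by group,
              ← hc.eq]
            group
          rw [e]
          exact mul_mem hx'θ (conj_mem_thetaOf (le_normalizer (inner_le r H hy)) (inv_mem hx'θ))
        intro n
        rcases Int.even_or_odd n with ⟨m, rfl⟩ | ⟨m, rfl⟩
        · rw [← two_mul, zpow_mul, zpow_two, involution_sq hx'o, one_zpow]
          simp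
        · rw [zpow_add, zpow_mul, zpow_two, involution_sq hx'o, one_zpow, zpow_one, one_mul]
          exact h1
      exact hxy j
    rw [show a * z * y * (a * z)⁻¹ * y⁻¹ = (a * (z * y * z⁻¹ * y⁻¹) * a⁻¹) * (a * y * a⁻¹ * y⁻¹) by
      group]
    exact mul_mem (conj_mem_thetaOf (le_normalizer (hAH ha)) hzy) (hθ hy hy2 hyA a ha)
  obtain ⟨y', hy'H, hy'B, -, hy'θ, hy'o⟩ := exists_lift hBH hcopB (inner_le r H hy) hy2 hBfix
  refine ⟨x', y', hx'o, hy'o hyo, ?_, mem_centralizer_iff.1 hy'B x' (mem_sup_right (mem_zpowers x')),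
    hx'N, by simpa using mul_mem (hθN hy'θ) hy,
    fun a ha => (show Commute a x' from mem_centralizer_iff.1 hx'A a ha).symm,
    fun a ha => (show Commute a y' from mem_centralizer_iff.1 hy'B a (mem_sup_left ha)).symm⟩
  intro e
  have hxy : x * y ∈ thetaOf r H := by
    have h1 := mul_mem (inv_mem hx'θ) (e ▸ hy'θ : x' * y⁻¹ ∈ thetaOf r H)
    rwa [mul_inv_rev, inv_inv, involution_inv hyo, mul_assoc, inv_mul_cancel_left] at h1
  have h2 : TwoElt (x * y) := ⟨1, by
    rw [pow_one, hc.mul_pow, pow_two, pow_two, involution_sq hxo, involution_sq hyo, mul_one]⟩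
  exact hne ((mul_eq_one_iff_eq_inv.1 (h2.eq_one_of_mem (odd_thetaOf r H) hxy)).trans
    (involution_inv hyo))

end AZ

end CfsgLib.GW.Sig
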