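import Cfsg.Agent.Lib.GW.Sig.Abelian.Basic

/-!
# Subgroups containing `Z` which are not constrained

Centralisers of the pieces are constrained, no four-group centralises a hyperplane, and in a
subgroup containing `Z` which is not constrained `Z` is inner, of rank two and self-centralising.
-/

set_option autoImplicit false

namespace CfsgLib.GW.Sig

open Subgroup Cfsg
open CfsgLib.Signalizer (involution_sq involution_inv involution_ne_one orderOf_conj)

universe u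

variable {G : Type u} [Group G] [Finite G] {r : ℕ} [Fact r.Prime]

namespace AZ

variable (d : AZ G r)

omit [Finite G] in
theorem tu_u : d.t * d.u * d.u = d.t := by
  rw [mul_assoc, involution_sq d.rot.hu, mul_one]

/-- Elements fixed by the four-group have constrained centralisers. -/
theorem constrained_fixed (S : Std G r) {y : G} (hy : y ∈ d.Z) (hy1 : y ≠ 1)
    (hyt : Commute d.t y) (hyu : Commute d.u y) : Constrained r (centralizer ({y} : Set G)) := by
  obtain ⟨h1, h2, h3⟩ := d.pieces S.odd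
  exact constrained_of_pieces S.base S.facts S.odd (d.centralizer_ne_top S hy1) d.isP
    (fun a ha => d.mem_centralizer ha hy) d.rot.ht d.rot.hu d.rot.ne d.rot.comm
    (mem_centralizer_of_commute hyt) (mem_centralizer_of_commute hyu) h1 h2 h3

/-- Elements of a piece have constrained centralisers. -/
theorem constrained_piece (S : Std G r) {y : G} (hy1 : y ≠ 1) (hy : Piece d.t d.u d.Z y) :
    Constrained r (centralizer ({y} : Set G)) := by
  by_contra hnc
  set H := centralizer ({y} : Set G) with hH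
  have hyo : Odd (orderOf y) := odd_orderOf_of_mem (d.odd_card S.odd) hy.1
  have htH : d.t ∈ H := mem_centralizer_of_commute hy.2.1
  have huH : d.u ∉ H := fun h => hy1 (eq_one_of_inv_self hyo
    (by rw [← hy.2.2, conj_eq_of_commute (commute_of_mem_centralizer h)]))
  have huN : d.u ∈ normalizer (H : Set G) := mem_normalizer_of_conj fun x hx => by
    refine mem_centralizer_of_commute ?_
    have h1 := (commute_of_mem_centralizer hx).map (MulAut.conj d.u).toMonoidHom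
    have h2 : (MulAut.conj d.u).toMonoidHom y = y⁻¹ := hy.2.2
    rw [h2] at h1
    simpa using h1.inv_right
  have htN : d.t ∈ inner r H := S.base.mem_of_outside (innerLike hnc) d.rot.ht d.rot.hu d.rot.comm
    htH huH (normalizer_le_inner r H huN)
  obtain ⟨-, ⟨a, ha, pa⟩, ⟨b, hb, pb⟩⟩ := d.pieces S.odd
  refine false_of_pair S.facts S.odd (d.centralizer_ne_top S hy1) hnc d.isP
    (fun c hc => d.mem_centralizer hc hy.1) htN d.rot.ht huN d.rot.hu ha pa hb ?_ d.rot.comm.symm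
  rwa [← d.rot.comm.eq]

/-- An element with a constrained centraliser fixed by `t`, in each component. -/
theorem exists_constrained (S : Std G r) :
    ∃ a ∈ d.Z, a ≠ 1 ∧ Commute d.t a ∧ Constrained r (centralizer ({a} : Set G)) := by
  obtain ⟨⟨a, ha, pa⟩, -, -⟩ := d.pieces S.odd
  exact ⟨a, pa.1, ha, pa.2.1, d.constrained_piece S ha pa⟩

/-- An element fixed by `t` is the product of fixed and piece elements. -/
theorem fixed_mem_of_all (S : Std G r) (L : Subgroup G)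
    (h : ∀ b ∈ d.Z, b ≠ 1 → Commute d.t b →
      Constrained r (centralizer ({b} : Set G)) → b ∈ L)
    {a : G} (ha : a ∈ d.Z) (hat : Commute d.t a) : a ∈ L := by
  set a' := d.u * a * d.u⁻¹ with ha'
  have ha'Z : a' ∈ d.Z := (mem_normalizer_iff.1 d.hu a).1 ha
  have hca' : Commute d.t a' := by
    have := hat.map (MulAut.conj d.u).toMonoidHom
    have e : (MulAut.conj d.u).toMonoidHom d.t = d.t := conj_eq_of_commute d.rot.comm.symm
    rwa [e] at this
  have hua' : d.u * a' * d.u⁻¹ = a := by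
    rw [ha', show d.u * (d.u * a * d.u⁻¹) * d.u⁻¹ = (d.u * d.u) * a * (d.u * d.u)⁻¹ by group,
      involution_sq d.rot.hu]
    group
  have hmem : ∀ {b : G}, b ∈ d.Z → Commute d.t b → (Commute d.u b ∨ d.u * b * d.u⁻¹ = b⁻¹) →
      b ∈ L := by
    intro b hb hbt hbu
    by_cases hb1 : b = 1
    · rw [hb1]; exact one_mem L
    refine h b hb hb1 hbt ?_
    rcases hbu with hbu | hbu
    · exact d.constrained_fixed S hb hb1 hbt hbu
    · exact d.constrained_piece S hb1 ⟨hb, hbt, hbu⟩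
  have h1 : a * a' ∈ L := by
    refine hmem (mul_mem ha ha'Z) (hat.mul_right hca') (Or.inl (commute_of_conj_eq ?_))
    rw [← conj_mul, ← ha', hua', d.comm a ha a' ha'Z]
  have h2 : a * a'⁻¹ ∈ L := by
    refine hmem (mul_mem ha (inv_mem ha'Z)) (hat.mul_right hca'.inv_right) (Or.inr ?_)
    rw [← conj_mul, ← conj_inv, ← ha', hua', mul_inv_rev, inv_inv]
  have h3 : a ^ 2 ∈ L := by
    have h4 := mul_mem h1 h2
    have e : a * a' * (a * a'⁻¹) = a ^ 2 := by
      rw [d.comm a ha a' ha'Z, show a' * a * (a * a'⁻¹) = a' * (a * a) * a'⁻¹ by group,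
        d.comm a' ha'Z _ (mul_mem ha ha), mul_inv_cancel_right, pow_two]
    rwa [e] at h4
  obtain ⟨m, hm⟩ := exists_pow_eq_self_of_coprime (n := 2) (x := a)
    (Nat.coprime_two_left.2 (odd_orderOf_of_mem (d.odd_card S.odd) ha))
  exact hm ▸ pow_mem h3 m

omit [Fact r.Prime] in
theorem elabMod {H : Subgroup G} (hZH : d.Z ≤ H) : ElabMod r H d.Z where
  le := hZH
  isP := fun a => ⟨1, Subtype.ext (by simpa using d.pow _ a.2)⟩
  comm a ha b hb := by
    rw [d.comm a ha b hb, mul_inv_cancel_right, mul_inv_cancel]; exact one_mem _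
  pow a ha := by rw [d.pow a ha]; exact one_mem _

theorem le_inner_of_big (S : Std G r) {H : Subgroup G} (hH : H ≠ ⊤) (hnc : ¬ Constrained r H)
    (hZH : d.Z ≤ H)
    (hbig : r ^ 2 * Nat.card (d.Z ⊓ oddOf H : Subgroup G) ≤
      Nat.card (d.Z ⊓ inner r H : Subgroup G)) :
    d.Z ≤ inner r H ∧ RankTwo r H d.Z := by
  obtain ⟨R, hR⟩ := exists_sylow_ge d.isP hZH
  refine ⟨S.facts.bigInner H _ d.Z hH (innerLike hnc) (d.elabMod hZH) hbig R hR ?_,
    hbig.trans (Subgroup.card_le_of_le inf_le_left)⟩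
  intro x hx
  have hxn : x ∈ normalizer (d.Z : Set G) := d.wc.le_normalizer (R.2.map _) hR hx
  refine mem_normalizer_of_conj fun w hw => ?_
  have hle : (d.Z ⊔ oddOf H).map (MulAut.conj x).toMonoidHom ≤ d.Z ⊔ oddOf H := by
    rw [Subgroup.map_sup]
    refine sup_le_sup ?_ ?_
    · rintro _ ⟨z, hz, rfl⟩; exact (mem_normalizer_iff.1 hxn z).1 hz
    · rintro _ ⟨o, ho, rfl⟩; exact conj_mem_oddOf (le_normalizer (map_subtype_le _ hx)) ho
  exact hle (CfsgLib.Transfer.conj_mem_map_conj hw)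

theorem card_le_of_small (S : Std G r) {H : Subgroup G} (hH : H ≠ ⊤) (hnc : ¬ Constrained r H)
    (hZH : d.Z ≤ H)
    (hsmall : ¬ r ^ 2 * Nat.card (d.Z ⊓ oddOf H : Subgroup G) ≤
      Nat.card (d.Z ⊓ inner r H : Subgroup G)) :
    Nat.card d.Z ≤ r ^ 2 * Nat.card (d.Z ⊓ oddOf H : Subgroup G) := by
  obtain ⟨i, hi⟩ := IsPGroup.iff_card.1 (d.isP.to_le (inf_le_left : d.Z ⊓ oddOf H ≤ d.Z))
  obtain ⟨j, hj⟩ := IsPGroup.iff_card.1 (d.isP.to_le (inf_le_left : d.Z ⊓ inner r H ≤ d.Z))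
  have hq := S.facts.quot H _ d.Z hH (innerLike hnc) (d.elabMod hZH)
  rw [hi, hj, ← pow_add, Nat.pow_le_pow_iff_right (Fact.out : r.Prime).one_lt] at hsmall
  rw [hj, ← pow_succ'] at hq
  rw [hi, ← pow_add]
  exact hq.trans (Nat.pow_le_pow_right (Fact.out : r.Prime).pos (by omega))

/-- An involution of `Z`'s normaliser and of `H`'s cannot fix a constrained element when `Z` is
inner of rank two. -/
theorem false_of_fix (S : Std G r) {H : Subgroup G} (hH : H ≠ ⊤) (hnc : ¬ Constrained r H)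
    (hZH : d.Z ≤ H) (hle : d.Z ≤ inner r H) (hrk : RankTwo r H d.Z) {x a : G} (hxo : orderOf x = 2)
    (hxH : x ∈ normalizer (H : Set G)) (hxZ : x ∈ normalizer (d.Z : Set G)) (ha : a ∈ d.Z)
    (hxa : Commute x a) (hac : Constrained r (centralizer ({a} : Set G))) : False :=
  d.hammer S hnc hZH ha (S.facts.free H _ d.Z hH (innerLike hnc) (d.elabMod hZH) hle hrk x hxo hxH
    hxZ a ha hxa.symm) hac

/-- No four-group centralises a hyperplane of `Z`. -/
theorem no_four (S : Std G r) {K : Subgroup G} (hKZ : K ≤ d.Z)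
    (hK : Nat.card d.Z ≤ r * Nat.card K) {x y : G} (hx : orderOf x = 2) (hy : orderOf y = 2)
    (hne : x ≠ y) (hc : Commute x y) (hxK : ∀ a ∈ K, Commute x a)
    (hyK : ∀ a ∈ K, Commute y a) : False := by
  classical
  have hncK : ∀ k ∈ K, ¬ Constrained r (centralizer ({k} : Set G)) := fun k hk hcon =>
    d.no_four_constrained S hKZ hK hx hy hne hc hxK hyK hk hcon
  -- a non-trivial element of `K` inverted by `t`
  obtain ⟨e, heK, he1, hte⟩ : ∃ e ∈ K, e ≠ 1 ∧ d.t * e * d.t⁻¹ = e⁻¹ := by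
    let I : Subgroup G :=
      { carrier := {a | a ∈ d.Z ∧ d.t * a * d.t⁻¹ = a⁻¹}
        one_mem' := ⟨one_mem _, by simp⟩
        mul_mem' := fun {a b} ha hb => ⟨mul_mem ha.1 hb.1, by
          rw [← conj_mul, ha.2, hb.2, ← mul_inv_rev, d.comm b hb.1 a ha.1]⟩
        inv_mem' := fun {a} ha => ⟨inv_mem ha.1, by rw [← conj_inv, ha.2]⟩ }
    have hIZ : I ≤ d.Z := fun a ha => ha.1
    obtain ⟨-, ⟨b, hb, pb⟩, ⟨c, hc', pc⟩⟩ := d.pieces S.odd
    by_contra hno
    push Not at hno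
    set L := I ⊓ centralizer ({d.u} : Set G) with hL
    have hbI : b ∈ I := ⟨pb.1, pb.2.2⟩
    have hcI : c ∈ I := ⟨pc.1, pc.2.2⟩
    have h1 : (⊥ : Subgroup G) < L := bot_lt_iff_ne_bot.2 fun e => hb (by
      rw [← mem_bot, ← e]; exact ⟨hbI, mem_centralizer_of_commute pb.2.1.symm⟩)
    have h2 : L < I := by
      refine lt_of_le_of_ne inf_le_left fun e => hc' ?_
      have h3 : Commute c d.u := commute_of_mem_centralizer ((e ▸ hcI : c ∈ L)).2
      refine eq_one_of_inv_self (odd_orderOf_of_mem (d.odd_card S.odd) pc.1) ?_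
      have h4 := pc.mul_left.2.2
      rw [show d.t * d.u * d.t = d.u by rw [d.rot.comm.eq, mul_assoc, involution_sq d.rot.ht,
        mul_one], conj_eq_of_commute h3.symm] at h4
      exact h4.symm
    have e1 := card_mul_le_of_lt (d.isP.to_le (inf_le_left.trans hIZ)) h1
    have e2 := card_mul_le_of_lt (d.isP.to_le hIZ) h2
    rw [card_bot, mul_one] at e1
    have hdis : I ⊓ K = ⊥ := eq_bot_iff.2 fun a ha => mem_bot.2 (by
      by_contra ha1
      exact hno a ha.2 ha1 ha.1.2)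
    have hKI : K ≤ normalizer (I : Set G) := fun k hk => mem_normalizer_of_conj fun a ha => by
      rw [d.comm k (hKZ hk) a ha.1, mul_inv_cancel_right]; exact ha
    have h5 := CfsgLib.Core.card_sup_mul_card_inf K I hKI
    rw [inf_comm, hdis, card_bot, mul_one] at h5
    have h6 : Nat.card (K ⊔ I : Subgroup G) ≤ Nat.card d.Z :=
      Subgroup.card_le_of_le (sup_le hKZ hIZ)
    rw [h5] at h6
    have hr2 : 2 ≤ r := (Fact.out : r.Prime).two_le
    have hKpos : 0 < Nat.card K := Nat.card_pos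
    have h7 : Nat.card K * (r * r) ≤ r * Nat.card K :=
      (Nat.mul_le_mul_left _ ((Nat.mul_le_mul_left r e1).trans e2)).trans (h6.trans hK)
    nlinarith [Nat.mul_le_mul (le_refl (r * Nat.card K)) hr2]
  have heZ := hKZ heK
  set H := centralizer ({e} : Set G) with hH
  have hnc := hncK e heK
  have hHt : H ≠ ⊤ := d.centralizer_ne_top S he1
  have hZH : d.Z ≤ H := fun a ha => d.mem_centralizer ha heZ
  have htN : d.t ∈ normalizer (H : Set G) := mem_normalizer_of_conj fun w hw => by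
    refine mem_centralizer_of_commute ?_
    have h1 := (commute_of_mem_centralizer hw).map (MulAut.conj d.t).toMonoidHom
    have h2 : (MulAut.conj d.t).toMonoidHom e = e⁻¹ := hte
    rw [h2] at h1
    simpa using h1.inv_right
  set N := inner r H with hN
  have hI := innerLike hnc
  by_cases hbig : r ^ 2 * Nat.card (d.Z ⊓ oddOf H : Subgroup G) ≤
      Nat.card (d.Z ⊓ inner r H : Subgroup G)
  · obtain ⟨hle, hrk⟩ := d.le_inner_of_big S hHt hnc hZH hbig
    obtain ⟨a, haZ, -, hta, hac⟩ := d.exists_constrained S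
    exact d.false_of_fix S hHt hnc hZH hle hrk d.rot.ht htN d.ht haZ hta hac
  have hsmall := d.card_le_of_small S hHt hnc hZH hbig
  set Kh := d.Z ⊓ oddOf H with hKh
  -- an involution of the inner part centralising `K`
  have hxH : x ∈ H := mem_centralizer_of_commute (hxK e heK)
  have hyH : y ∈ H := mem_centralizer_of_commute (hyK e heK)
  obtain ⟨w, hwN, hwo, hwK⟩ : ∃ w ∈ N, orderOf w = 2 ∧ ∀ a ∈ K, Commute w a := by
    rcases S.base.four_meets hI.even hx hy hne hc (hI.normal hxH) (hI.normal hyH) with h | h | h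
    · exact ⟨x, h, hx, hxK⟩
    · exact ⟨y, h, hy, hyK⟩
    · exact ⟨x * y, h, CfsgLib.Signalizer.orderOf_eq_two_of
        (fun e => hne ((mul_eq_one_iff_eq_inv.1 e).trans (involution_inv hy)))
        (by rw [← pow_two, hc.mul_pow, pow_two, pow_two, involution_sq hx, involution_sq hy,
          mul_one]), fun a ha => (hxK a ha).mul_left (hyK a ha)⟩
  have hwmod : ∀ a ∈ Kh, w * a * w⁻¹ * a⁻¹ ∈ oddOf H := fun a ha =>
    mul_mem (conj_mem_oddOf (le_normalizer (hI.le hwN)) ha.2) (inv_mem ha.2)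
  have hKhK : Kh ≤ K := by
    intro a ha
    by_contra haK
    have h1 : K < K ⊔ Kh := lt_of_le_of_ne le_sup_left fun e => haK (e ▸ mem_sup_right ha)
    have h2 : K ⊔ Kh = d.Z := eq_of_le_of_card_ge (sup_le hKZ inf_le_left)
      (hK.trans (card_mul_le_of_lt (d.isP.to_le (sup_le hKZ inf_le_left)) h1))
    refine d.not_commute_mod S hZH hwN hwo fun b hb => ?_
    have hKn : K ≤ normalizer (Kh : Set G) := fun k hk => mem_normalizer_of_conj fun c hc => by
      rw [d.comm k (hKZ hk) c hc.1, mul_inv_cancel_right]; exact hc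
    obtain ⟨k, hk, c, hc, rfl⟩ := (CfsgLib.Core.mem_sup_iff_mul hKn).1 (h2.symm ▸ hb)
    rw [show w * (k * c) * w⁻¹ * (k * c)⁻¹ =
      (w * k * w⁻¹) * (w * c * w⁻¹ * c⁻¹) * k⁻¹ by group, conj_eq_of_commute (hwK k hk)]
    exact conj_mem_oddOf (le_normalizer (hZH (hKZ hk))) (hwmod c hc)
  by_cases hKKh : K ≤ Kh
  · -- a hyperplane invariant under `t` avoiding the pieces
    have hKeq : K = Kh := le_antisymm hKKh hKhK
    obtain ⟨⟨a, ha, pa⟩, ⟨b, hb, pb⟩, -⟩ := d.pieces S.odd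
    have hak : a ∉ K := fun h => hncK a h (d.constrained_piece S ha pa)
    have hbo : Odd (orderOf b) := odd_orderOf_of_mem (d.odd_card S.odd) pb.1
    have hZn : K ≤ normalizer ((zpowers a : Subgroup G) : Set G) := fun k hk =>
      mem_normalizer_of_conj fun c hc => by
        rw [d.comm k (hKZ hk) c (zpowers_le.2 pa.1 hc), mul_inv_cancel_right]; exact hc
    have h1 : K < K ⊔ zpowers a :=
      lt_of_le_of_ne le_sup_left fun e => hak (e ▸ mem_sup_right (mem_zpowers a))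
    have h2 : K ⊔ zpowers a = d.Z := eq_of_le_of_card_ge (sup_le hKZ (zpowers_le.2 pa.1))
      (hK.trans (card_mul_le_of_lt (d.isP.to_le (sup_le hKZ (zpowers_le.2 pa.1))) h1))
    obtain ⟨k, hk, z, hz, e'⟩ := (CfsgLib.Core.mem_sup_iff_mul hZn).1 (h2.symm ▸ pb.1 : b ∈ _)
    obtain ⟨i, rfl⟩ := hz
    have hk' : d.t * k * d.t⁻¹ ∈ K := by
      rw [hKeq] at hk ⊢
      exact ⟨(mem_normalizer_iff.1 d.ht k).1 hk.1, conj_mem_oddOf htN hk.2⟩
    have h3 : b⁻¹ = d.t * k * d.t⁻¹ * a ^ i := by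
      rw [← pb.2.2, e', ← conj_mul, conj_eq_of_commute (pa.2.1.zpow_right i)]
    have hb2 : b ^ 2 ∈ K := by
      have h4 : b * b = k * (d.t * k * d.t⁻¹)⁻¹ := by
        calc b * b = b * (b⁻¹)⁻¹ := by rw [inv_inv]
          _ = k * a ^ i * (d.t * k * d.t⁻¹ * a ^ i)⁻¹ := by rw [h3, ← e']
          _ = _ := by group
      rw [pow_two, h4]
      exact mul_mem hk (inv_mem hk')
    obtain ⟨m, hm⟩ := exists_pow_eq_self_of_coprime (n := 2) (x := b) (Nat.coprime_two_left.2 hbo)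
    exact hncK b (hm ▸ pow_mem hb2 m)
      (d.next.constrained_piece S hb (show Piece d.u (d.t * d.u) d.Z b by
        rw [d.rot.comm.eq]; exact pb.mul_left))
  have hlt : Kh < K := lt_of_le_not_ge hKhK hKKh
  have hrk : RankTwo r H d.Z := by
    by_cases hKZ' : K = d.Z
    · exact (d.not_commute_mod S hZH hwN hwo fun a ha => by
        rw [conj_eq_of_commute (hwK a (hKZ'.symm ▸ ha)), mul_inv_cancel]; exact one_mem _).elim
    have h1 := card_mul_le_of_lt (d.isP.to_le hKZ) hlt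
    have h2 := card_mul_le_of_lt d.isP (lt_of_le_of_ne hKZ hKZ')
    rw [RankTwo, pow_two, mul_assoc]
    exact (Nat.mul_le_mul_left r h1).trans h2
  -- a constrained element fixed by `t` outside `N`
  obtain ⟨a₀, ha₀, ha₀t, ha₀c, ha₀N⟩ : ∃ a ∈ d.Z, Commute d.t a ∧
      Constrained r (centralizer ({a} : Set G)) ∧ a ∉ N := by
    by_contra hno
    push Not at hno
    have hfixN : ∀ a ∈ d.Z, Commute d.t a → a ∈ N := fun a ha hat =>
      d.fixed_mem_of_all S N (fun b hb _ hbt hbc => hno b hb hbt hbc) ha hat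
    refine hbig ((le_of_eq ?_).trans' hrk)
    have hZN : d.Z ≤ N := by
      intro a ha
      have hinv : a * d.t * a⁻¹ * d.t⁻¹ ∈ N :=
        S.facts.comm H N d.Z hHt hI (d.elabMod hZH) hrk d.t d.rot.ht htN a ha
      have haZ' : d.t * a⁻¹ * d.t⁻¹ ∈ d.Z := (mem_normalizer_iff.1 d.ht _).1 (inv_mem ha)
      have hprod : a * (d.t * a⁻¹ * d.t⁻¹)⁻¹ ∈ N := by
        refine hfixN _ (mul_mem ha (inv_mem haZ')) (commute_of_conj_eq ?_)
        rw [show d.t * (a * (d.t * a⁻¹ * d.t⁻¹)⁻¹) * d.t⁻¹ =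
          (d.t * a * d.t⁻¹) * ((d.t * d.t) * a * (d.t * d.t)⁻¹) by group, involution_sq d.rot.ht,
          one_mul, inv_one, mul_one, show (d.t * a⁻¹ * d.t⁻¹)⁻¹ = d.t * a * d.t⁻¹ by group]
        exact d.comm _ ((mem_normalizer_iff.1 d.ht a).1 ha) a ha
      have h2 : a ^ 2 ∈ N := by
        have := mul_mem hinv hprod
        rwa [show a * d.t * a⁻¹ * d.t⁻¹ * (a * (d.t * a⁻¹ * d.t⁻¹)⁻¹) =
          a * ((d.t * a⁻¹ * d.t⁻¹) * a) * (d.t * a⁻¹ * d.t⁻¹)⁻¹ by group,
          d.comm _ haZ' a ha, ← mul_assoc, mul_inv_cancel_right, ← pow_two] at this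
      obtain ⟨m, hm⟩ := exists_pow_eq_self_of_coprime (n := 2) (x := a)
        (Nat.coprime_two_left.2 (odd_orderOf_of_mem (d.odd_card S.odd) ha))
      exact hm ▸ pow_mem h2 m
    rw [inf_eq_left.2 hZN]
  obtain ⟨x₁, hx₁N, y₁, hy₁N, hx₁o, hy₁o, hne₁, hc₁, hx₁a, hy₁a⟩ :=
    S.facts.outer H N d.Z hHt hI (d.elabMod hZH) hrk a₀ ha₀ ha₀N
  set K₁ := Kh ⊔ zpowers a₀ with hK₁
  have hK₁Z : K₁ ≤ d.Z := sup_le inf_le_left (zpowers_le.2 ha₀)
  have hmod : ∀ w' : G, w' ∈ N → w' * a₀ * w'⁻¹ * a₀⁻¹ ∈ oddOf H →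
      ∀ a ∈ K₁, w' * a * w'⁻¹ * a⁻¹ ∈ oddOf H := by
    intro w' hw' hwa
    let L : Subgroup G :=
      { carrier := {a | a ∈ H ∧ w' * a * w'⁻¹ * a⁻¹ ∈ oddOf H}
        one_mem' := ⟨one_mem H, by simp⟩
        mul_mem' := fun {a b} ha hb => ⟨mul_mem ha.1 hb.1, by
          rw [show w' * (a * b) * w'⁻¹ * (a * b)⁻¹ =
            (w' * a * w'⁻¹ * a⁻¹) * (a * (w' * b * w'⁻¹ * b⁻¹) * a⁻¹) by group]
          exact mul_mem ha.2 (conj_mem_oddOf (le_normalizer ha.1) hb.2)⟩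
        inv_mem' := fun {a} ha => ⟨inv_mem ha.1, by
          have h1 := conj_mem_oddOf (le_normalizer (inv_mem ha.1)) (inv_mem ha.2)
          rwa [show a⁻¹ * (w' * a * w'⁻¹ * a⁻¹)⁻¹ * a⁻¹⁻¹ = w' * a⁻¹ * w'⁻¹ * a⁻¹⁻¹ by group] at h1⟩ }
    have hle : K₁ ≤ L := sup_le
      (fun a ha => ⟨hZH ha.1, mul_mem (conj_mem_oddOf (le_normalizer (hI.le hw')) ha.2) (inv_mem ha.2)⟩)
      (zpowers_le.2 ⟨hZH ha₀, hwa⟩)
    exact fun a ha => (hle ha).2
  obtain ⟨x', y', hx'o, hy'o, hne', hc', -, -, hx'K, hy'K⟩ := exists_four_lift S.odd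
    (hK₁Z.trans hZH) (d.isP.to_le hK₁Z) hx₁N hy₁N hx₁o hy₁o hne₁ hc₁ (hmod x₁ hx₁N hx₁a)
    (hmod y₁ hy₁N hy₁a)
  have hcard : Nat.card d.Z ≤ r * Nat.card K₁ := by
    have h1 : Kh < K₁ := lt_of_le_of_ne le_sup_left fun e =>
      ha₀N ((le_sup_left : oddOf H ≤ inner r H) ((e.ge (mem_sup_right (mem_zpowers a₀))) : a₀ ∈ Kh).2)
    calc Nat.card d.Z ≤ r ^ 2 * Nat.card Kh := hsmall
      _ = r * (r * Nat.card Kh) := by ring
      _ ≤ _ := Nat.mul_le_mul_left r (card_mul_le_of_lt (d.isP.to_le hK₁Z) h1)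
  exact d.no_four_constrained S hK₁Z hcard hx'o hy'o hne' hc' hx'K hy'K
    (mem_sup_right (mem_zpowers a₀)) ha₀c

/-- In a subgroup containing `Z` which is not constrained, `Z` is inner of rank two. -/
theorem inner_rank_two (S : Std G r) {H : Subgroup G} (hH : H ≠ ⊤) (hnc : ¬ Constrained r H)
    (hZH : d.Z ≤ H) : d.Z ≤ inner r H ∧ RankTwo r H d.Z := by
  classical
  by_cases hbig : r ^ 2 * Nat.card (d.Z ⊓ oddOf H : Subgroup G) ≤
      Nat.card (d.Z ⊓ inner r H : Subgroup G)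
  · exact d.le_inner_of_big S hH hnc hZH hbig
  exfalso
  have hsmall := d.card_le_of_small S hH hnc hZH hbig
  set Kh := d.Z ⊓ oddOf H with hKh
  set N := inner r H with hN
  have hI := innerLike hnc
  obtain ⟨x₀, hx₀, hx₀o⟩ : ∃ x ∈ N, orderOf x = 2 := by
    simp only [Constrained, not_forall, not_not] at hnc
    obtain ⟨x, hx, hxo⟩ := hnc
    exact ⟨x, mem_sup_right (subset_closure ⟨hx, twoElt_of_involution hxo⟩), hxo⟩
  have hfour : ∃ x ∈ N, ∃ y ∈ N, orderOf x = 2 ∧ orderOf y = 2 ∧ x ≠ y ∧ Commute x y := by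
    refine (S.facts.four H N hH hI).resolve_right fun h => d.not_commute_mod S hZH hx₀ hx₀o
      fun a ha => ?_
    have h1 := h a (hZH ha) (odd_orderOf_of_mem (d.odd_card S.odd) ha) x₀ hx₀
    rw [show x₀ * a * x₀⁻¹ * a⁻¹ = (a * x₀ * a⁻¹ * x₀⁻¹)⁻¹ by group]
    exact inv_mem h1
  have hfix : ∀ w ∈ N, ∀ a ∈ Kh, w * a * w⁻¹ * a⁻¹ ∈ oddOf H := fun w hw a ha =>
    mul_mem (conj_mem_oddOf (le_normalizer (hI.le hw)) ha.2) (inv_mem ha.2)
  by_cases hhyp : Nat.card d.Z ≤ r * Nat.card Kh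
  · obtain ⟨x, hx, y, hy, hxo, hyo, hne, hc⟩ := hfour
    obtain ⟨x', y', h1, h2, h3, h4, -, -, h5, h6⟩ := exists_four_lift S.odd
      ((inf_le_left : Kh ≤ d.Z).trans hZH) (d.isP.to_le inf_le_left) hx hy hxo hyo hne hc
      (hfix x hx) (hfix y hy)
    exact d.no_four S inf_le_left hhyp h1 h2 h3 h4 h5 h6
  have hrk : RankTwo r H d.Z := by
    obtain ⟨i, hi⟩ := IsPGroup.iff_card.1 (d.isP.to_le (inf_le_left : Kh ≤ d.Z))
    obtain ⟨j, hj⟩ := IsPGroup.iff_card.1 d.isP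
    rw [hi, hj, ← pow_succ', Nat.pow_le_pow_iff_right (Fact.out : r.Prime).one_lt] at hhyp
    rw [RankTwo, ← hKh, hi, hj, ← pow_add]
    exact Nat.pow_le_pow_right (Fact.out : r.Prime).pos (by omega)
  obtain ⟨a₀, ha₀, ha₀N⟩ : ∃ a ∈ d.Z, a ∉ N := by
    by_contra hno
    push Not at hno
    exact hbig (by rwa [inf_eq_left.2 (fun a ha => hno a ha : d.Z ≤ N)])
  obtain ⟨x, hx, y, hy, hxo, hyo, hne, hc, hxa, hya⟩ :=
    S.facts.outer H N d.Z hH hI (d.elabMod hZH) hrk a₀ ha₀ ha₀N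
  set K := Kh ⊔ zpowers a₀ with hKdef
  have hKZ : K ≤ d.Z := sup_le inf_le_left (zpowers_le.2 ha₀)
  have hmod : ∀ w ∈ N, w * a₀ * w⁻¹ * a₀⁻¹ ∈ oddOf H → ∀ a ∈ K, w * a * w⁻¹ * a⁻¹ ∈ oddOf H := by
    intro w hw hwa
    let L : Subgroup G :=
      { carrier := {a | a ∈ H ∧ w * a * w⁻¹ * a⁻¹ ∈ oddOf H}
        one_mem' := ⟨one_mem H, by simp⟩
        mul_mem' := fun {a b} ha hb => ⟨mul_mem ha.1 hb.1, by
          rw [show w * (a * b) * w⁻¹ * (a * b)⁻¹ =
            (w * a * w⁻¹ * a⁻¹) * (a * (w * b * w⁻¹ * b⁻¹) * a⁻¹) by group]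
          exact mul_mem ha.2 (conj_mem_oddOf (le_normalizer ha.1) hb.2)⟩
        inv_mem' := fun {a} ha => ⟨inv_mem ha.1, by
          have h1 := conj_mem_oddOf (le_normalizer (inv_mem ha.1)) (inv_mem ha.2)
          rwa [show a⁻¹ * (w * a * w⁻¹ * a⁻¹)⁻¹ * a⁻¹⁻¹ = w * a⁻¹ * w⁻¹ * a⁻¹⁻¹ by group] at h1⟩ }
    have hle : K ≤ L :=
      sup_le (fun a ha => ⟨hZH ha.1, hfix w hw a ha⟩) (zpowers_le.2 ⟨hZH ha₀, hwa⟩)
    exact fun a ha => (hle ha).2
  obtain ⟨x', y', h1, h2, h3, h4, -, -, h5, h6⟩ := exists_four_lift S.odd (hKZ.trans hZH)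
    (d.isP.to_le hKZ) hx hy hxo hyo hne hc (hmod x hx hxa) (hmod y hy hya)
  refine d.no_four S hKZ ?_ h1 h2 h3 h4 h5 h6
  have hlt : Kh < K := lt_of_le_of_ne le_sup_left fun e =>
    ha₀N ((le_sup_left : oddOf H ≤ inner r H) ((e.ge (mem_sup_right (mem_zpowers a₀))) : a₀ ∈ Kh).2)
  calc Nat.card d.Z ≤ r ^ 2 * Nat.card Kh := hsmall
    _ = r * (r * Nat.card Kh) := by ring
    _ ≤ _ := Nat.mul_le_mul_left r (card_mul_le_of_lt (d.isP.to_le hKZ) hlt)

/-- A subgroup containing `Z` normalised by an involution fixing a constrained element is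
constrained. -/
theorem constrained_of_fix (S : Std G r) {H : Subgroup G} (hH : H ≠ ⊤) (hZH : d.Z ≤ H) {x a : G}
    (hxo : orderOf x = 2) (hxH : x ∈ normalizer (H : Set G))
    (hxZ : x ∈ normalizer (d.Z : Set G)) (ha : a ∈ d.Z) (hxa : Commute x a)
    (hac : Constrained r (centralizer ({a} : Set G))) : Constrained r H := by
  by_contra hnc
  obtain ⟨hle, hrk⟩ := d.inner_rank_two S hH hnc hZH
  exact d.false_of_fix S hH hnc hZH hle hrk hxo hxH hxZ ha hxa hac

/-- Elements centralising `Z` modulo the core lie in `Z O(H)`. -/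
theorem self_centralizing (S : Std G r) {H : Subgroup G} (hH : H ≠ ⊤) (hnc : ¬ Constrained r H)
    (hZH : d.Z ≤ H) {x : G} (hx : x ∈ H) (hxZ : ∀ a ∈ d.Z, x * a * x⁻¹ * a⁻¹ ∈ oddOf H) :
    x ∈ d.Z ⊔ oddOf H := by
  obtain ⟨hle, hrk⟩ := d.inner_rank_two S hH hnc hZH
  obtain ⟨P, hP⟩ := exists_sylow_ge d.isP hle
  refine S.facts.bigSelf H _ d.Z hH (innerLike hnc) (d.elabMod hZH) hle hrk P hP ?_ x hx hxZ
  intro n hn
  have hnZ : n ∈ normalizer (d.Z : Set G) :=
    d.wc _ (P.2.map _) hP n fun z hz => (mem_normalizer_iff.1 hn.2 z).1 (hP hz)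
  refine mem_normalizer_of_conj fun w hw => ?_
  have hle' : (d.Z ⊔ oddOf H).map (MulAut.conj n).toMonoidHom ≤ d.Z ⊔ oddOf H := by
    rw [Subgroup.map_sup]
    refine sup_le_sup ?_ ?_
    · rintro _ ⟨z, hz, rfl⟩; exact (mem_normalizer_iff.1 hnZ z).1 hz
    · rintro _ ⟨o, ho, rfl⟩; exact conj_mem_oddOf (le_normalizer (inner_le r H hn.1)) ho
  exact hle' (CfsgLib.Transfer.conj_mem_map_conj hw)

end AZ

end CfsgLib.GW.Sig
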