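import Cfsg.Agent.Lib.GW.Sig.Abelian.Basic

/-!
# Elements centralising a cyclic fixed-point group

If the fixed points of `t` on `Z` are cyclic, `r`-elements of `N(Z) ∩ C(t)` centralising them act
quadratically on `Z`, and so centralise it.
-/

set_option autoImplicit false

namespace CfsgLib.GW.Sig

open Subgroup Cfsg
open CfsgLib.Signalizer (involution_sq involution_inv involution_ne_one orderOf_conj)

universe u

variable {G : Type u} [Group G] [Finite G] {r : ℕ} [Fact r.Prime]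

/-- An `r`-element fixes an element of every non-trivial `r`-group it normalises. -/
theorem exists_fixed_of_normalizes {K : Subgroup G} (hK : IsPGroup r K) (hne : K ≠ ⊥) {y : G}
    (hy : IsPGroup r (zpowers y)) (hyK : y ∈ normalizer (K : Set G)) :
    ∃ w ∈ K, w ≠ 1 ∧ Commute y w := by
  set Q := zpowers y ⊔ K with hQ
  have hQp : IsPGroup r Q := hy.to_sup_of_normal_right' hK (zpowers_le.2 hyK)
  haveI : (K.subgroupOf Q).Normal :=
    normal_subgroupOf_of_le_normalizer (sup_le (zpowers_le.2 hyK) le_normalizer)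
  have hne' : K.subgroupOf Q ≠ ⊥ := fun e => hne (by
    rw [← map_subgroupOf_eq_of_le (le_sup_right : K ≤ Q), e, Subgroup.map_bot])
  obtain ⟨⟨w, hw⟩, hw1⟩ :=
    ne_bot_iff_exists_ne_one.1 (CfsgLib.PGroups.inf_center_ne_bot hQp hne')
  refine ⟨(w : G), hw.1, fun e => hw1 (Subtype.ext (Subtype.ext e)), ?_⟩
  exact congrArg Subtype.val (mem_center_iff.1 hw.2 ⟨y, mem_sup_left (mem_zpowers y)⟩)

/-- An `r`-element centralises the groups of order at most `r` it normalises. -/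
theorem commute_of_card_le {K : Subgroup G} (hK : IsPGroup r K) (hle : Nat.card K ≤ r) {y : G}
    (hy : IsPGroup r (zpowers y)) (hyK : y ∈ normalizer (K : Set G)) {k : G} (hk : k ∈ K) :
    Commute y k := by
  by_cases hne : K = ⊥
  · rw [hne, mem_bot] at hk; rw [hk]; exact Commute.one_right y
  obtain ⟨w, hw, hw1, hyw⟩ := exists_fixed_of_normalizes hK hne hy hyK
  have hwK : zpowers w ≤ K := zpowers_le.2 hw
  obtain ⟨i, hi⟩ := IsPGroup.iff_card.1 (hK.to_le hwK)
  have hi0 : i ≠ 0 := fun e => by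
    rw [e, pow_zero, Nat.card_zpowers, orderOf_eq_one_iff] at hi
    exact hw1 hi
  have heq : zpowers w = K := eq_of_le_of_card_ge hwK
    (hle.trans (hi ▸ Nat.le_self_pow hi0 r))
  obtain ⟨j, rfl⟩ := (heq.symm ▸ hk : k ∈ zpowers w)
  exact hyw.zpow_right j

/-- On an abelian group of order at most `r ^ 2` an `r`-element acts quadratically. -/
theorem commute_commutator {V : Subgroup G} (hV : IsPGroup r V) (hle : Nat.card V ≤ r * r)
    (hc : ∀ a ∈ V, ∀ b ∈ V, a * b = b * a) {y : G} (hy : IsPGroup r (zpowers y))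
    (hyV : y ∈ normalizer (V : Set G)) {v : G} (hv : v ∈ V) :
    Commute y (y * v * y⁻¹ * v⁻¹) := by
  by_cases hne : V = ⊥
  · rw [hne, mem_bot] at hv; subst hv; simp
  have hmem : ∀ {a : G}, a ∈ V → y * a * y⁻¹ ∈ V := fun ha => (mem_normalizer_iff.1 hyV _).1 ha
  let φ : V →* G :=
    { toFun := fun a => y * (a : G) * y⁻¹ * (a : G)⁻¹
      map_one' := by simp
      map_mul' := fun a b => by
        rw [Subgroup.coe_mul, mul_inv_rev, ← conj_mul,
          hc _ (inv_mem b.2) _ (inv_mem a.2)]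
        calc y * (a : G) * y⁻¹ * (y * (b : G) * y⁻¹) * ((a : G)⁻¹ * (b : G)⁻¹)
            = y * (a : G) * y⁻¹ * ((y * (b : G) * y⁻¹) * (a : G)⁻¹) * (b : G)⁻¹ := by group
          _ = y * (a : G) * y⁻¹ * ((a : G)⁻¹ * (y * (b : G) * y⁻¹)) * (b : G)⁻¹ := by
            rw [hc _ (hmem b.2) _ (inv_mem a.2)]
          _ = _ := by group }
  set W := φ.range with hW
  have hWV : W ≤ V := by
    rintro _ ⟨a, rfl⟩; exact mul_mem (hmem a.2) (inv_mem a.2)
  obtain ⟨w, hw, hw1, hyw⟩ := exists_fixed_of_normalizes hV hne hy hyV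
  have hker : φ.ker ≠ ⊥ := fun e => hw1 (by
    have : (⟨w, hw⟩ : V) ∈ φ.ker := show y * w * y⁻¹ * w⁻¹ = 1 by
      rw [conj_eq_of_commute hyw, mul_inv_cancel]
    rw [e, mem_bot] at this
    exact congrArg Subtype.val this)
  have hkc : r ≤ Nat.card φ.ker := by
    obtain ⟨k, hk, hcard⟩ := (hV.to_subgroup φ.ker).nontrivial_iff_card.1
      ((nontrivial_iff_ne_bot _).2 hker)
    exact hcard ▸ Nat.le_self_pow hk.ne' r
  have hWc : Nat.card W ≤ r := by
    have h1 := φ.ker.index_mul_card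
    rw [index_ker] at h1
    refine Nat.le_of_mul_le_mul_right ?_ (Fact.out : r.Prime).pos
    calc Nat.card W * r ≤ Nat.card W * Nat.card φ.ker := Nat.mul_le_mul_left _ hkc
      _ = Nat.card V := h1
      _ ≤ r * r := hle
  have hyW : y ∈ normalizer (W : Set G) := mem_normalizer_of_conj fun x hx => by
    obtain ⟨a, rfl⟩ := hx
    refine ⟨⟨y * a * y⁻¹, hmem a.2⟩, ?_⟩
    show y * (y * (a : G) * y⁻¹) * y⁻¹ * (y * (a : G) * y⁻¹)⁻¹ =
      y * (y * (a : G) * y⁻¹ * (a : G)⁻¹) * y⁻¹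
    group
  exact commute_of_card_le (hV.to_le hWV) hWc hy hyW ⟨⟨v, hv⟩, rfl⟩

/-- A product of an element with its translate and their quotient. -/
theorem mul_mul_inv_eq_sq {v w : G} (h : v * w = w * v) : v * w * (v * w⁻¹) = v ^ 2 := by
  rw [h, pow_two, show w * v * (v * w⁻¹) = w * (v * v) * w⁻¹ by group]
  exact conj_eq_of_commute ((Commute.mul_right h.symm h.symm))

namespace AZ

variable (d : AZ G r)

/-- A subgroup containing the fixed points of the three involutions contains `Z`. -/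
theorem Z_le_of_fixed (S : Std G r) (L : Subgroup G)
    (h1 : ∀ v ∈ d.Z, Commute d.t v → v ∈ L) (h2 : ∀ v ∈ d.Z, Commute d.u v → v ∈ L)
    (h3 : ∀ v ∈ d.Z, Commute (d.t * d.u) v → v ∈ L) : d.Z ≤ L := by
  have hsq : ∀ {v : G}, v ∈ d.Z → v ^ 2 ∈ L → v ∈ L := fun hv hv2 => by
    obtain ⟨m, hm⟩ := exists_pow_eq_self_of_coprime (n := 2)
      (Nat.coprime_two_left.2 (odd_orderOf_of_mem (d.odd_card S.odd) hv))
    exact hm ▸ pow_mem hv2 m
  have conjt : ∀ v : G, d.t * (d.t * v * d.t⁻¹) * d.t⁻¹ = v := fun v => by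
    rw [show d.t * (d.t * v * d.t⁻¹) * d.t⁻¹ = (d.t * d.t) * v * (d.t * d.t)⁻¹ by group,
      involution_sq d.rot.ht]
    group
  have conju : ∀ v : G, d.u * (d.u * v * d.u⁻¹) * d.u⁻¹ = v := fun v => by
    rw [show d.u * (d.u * v * d.u⁻¹) * d.u⁻¹ = (d.u * d.u) * v * (d.u * d.u)⁻¹ by group,
      involution_sq d.rot.hu]
    group
  intro v hv
  have hvt : d.t * v * d.t⁻¹ ∈ d.Z := (mem_normalizer_iff.1 d.ht v).1 hv
  refine hsq hv ?_
  rw [← mul_mul_inv_eq_sq (d.comm _ hv _ hvt)]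
  refine mul_mem (h1 _ (mul_mem hv hvt) (commute_of_conj_eq ?_)) ?_
  · rw [← conj_mul, conjt]; exact d.comm _ hvt _ hv
  set q := v * (d.t * v * d.t⁻¹)⁻¹ with hq
  have hqZ : q ∈ d.Z := mul_mem hv (inv_mem hvt)
  have hqt : d.t * q * d.t⁻¹ = q⁻¹ := by
    rw [hq, ← conj_mul, ← conj_inv, conjt, mul_inv_rev, inv_inv]
  have hqu : d.u * q * d.u⁻¹ ∈ d.Z := (mem_normalizer_iff.1 d.hu q).1 hqZ
  refine hsq hqZ ?_
  rw [← mul_mul_inv_eq_sq (d.comm _ hqZ _ hqu)]
  refine mul_mem (h2 _ (mul_mem hqZ hqu) (commute_of_conj_eq ?_))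
    (h3 _ (mul_mem hqZ (inv_mem hqu)) (commute_of_conj_eq ?_))
  · rw [← conj_mul, conju]; exact d.comm _ hqu _ hqZ
  · have e1 : d.t * d.u * q * (d.t * d.u)⁻¹ = d.u * (d.t * q * d.t⁻¹) * d.u⁻¹ := by
      rw [d.rot.comm.eq]; group
    have e2 : d.t * d.u * (d.u * q * d.u⁻¹)⁻¹ * (d.t * d.u)⁻¹ = q := by
      rw [← conj_inv, show d.t * d.u * (d.u * q * d.u⁻¹) * (d.t * d.u)⁻¹ =
        d.t * (d.u * (d.u * q * d.u⁻¹) * d.u⁻¹) * d.t⁻¹ by group, conju, hqt, inv_inv]
    rw [← conj_mul, e2, e1, hqt, show d.u * q⁻¹ * d.u⁻¹ = (d.u * q * d.u⁻¹)⁻¹ by group]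
    exact d.comm _ (inv_mem hqu) _ hqZ

/-- With cyclic fixed points, the fixed `r`-elements of the normaliser centralising them
centralise `Z`. -/
theorem commute_Z (S : Std G r) (hB : Nat.card (d.Z ⊓ centralizer ({d.t} : Set G) : Subgroup G) ≤ r)
    {a b : G} (ha : a ∈ d.Z) (ha1 : a ≠ 1) (hat : Commute d.t a) (hbr : b ^ r = 1)
    (hbZ : b ∈ normalizer (d.Z : Set G)) (hbt : Commute b d.t) (hba : Commute b a) :
    ∀ v ∈ d.Z, Commute b v := by
  classical
  have haord : orderOf a = r := orderOf_eq_prime (d.pow a ha) ha1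
  have hB' : zpowers a = d.Z ⊓ centralizer ({d.t} : Set G) :=
    eq_of_le_of_card_ge (zpowers_le.2 ⟨ha, mem_centralizer_of_commute hat.symm⟩)
      (by rw [Nat.card_zpowers, haord]; exact hB)
  have hfixt : ∀ v ∈ d.Z, Commute d.t v → v ∈ zpowers a := fun v hv h =>
    hB'.ge ⟨hv, mem_centralizer_of_commute h.symm⟩
  have hback : ∀ {x v : G}, v ∈ d.Z → Commute (d.g * x * d.g⁻¹) v →
      d.g⁻¹ * v * d.g ∈ d.Z ∧ Commute x (d.g⁻¹ * v * d.g) := fun {x v} hv h => by
    refine ⟨by simpa using (mem_normalizer_iff.1 (inv_mem d.hg) v).1 hv, ?_⟩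
    have h1 := h.map (MulAut.conj d.g⁻¹).toMonoidHom
    simpa [MulAut.conj_apply, mul_assoc] using h1
  set a' := d.g * a * d.g⁻¹ with ha'
  set a'' := d.g * a' * d.g⁻¹ with ha''
  have ha'Z : a' ∈ d.Z := (mem_normalizer_iff.1 d.hg a).1 ha
  have ha''Z : a'' ∈ d.Z := (mem_normalizer_iff.1 d.hg a').1 ha'Z
  have ha'u : Commute d.u a' := d.rot.conj1 ▸ hat.map (MulAut.conj d.g).toMonoidHom
  have ha''tu : Commute (d.t * d.u) a'' := d.rot.conj2 ▸ ha'u.map (MulAut.conj d.g).toMonoidHom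
  have hfixu : ∀ v ∈ d.Z, Commute d.u v → v ∈ zpowers a' := fun v hv h => by
    obtain ⟨h1, h2⟩ := hback (x := d.t) hv (by rw [d.rot.conj1]; exact h)
    obtain ⟨i, hi⟩ := hfixt _ h1 h2
    refine ⟨i, ?_⟩
    show a' ^ i = v
    rw [ha', conj_zpow, show a ^ i = d.g⁻¹ * v * d.g from hi]
    group
  have hfixtu : ∀ v ∈ d.Z, Commute (d.t * d.u) v → v ∈ zpowers a'' := fun v hv h => by
    obtain ⟨h1, h2⟩ := hback (x := d.u) hv (by rw [d.rot.conj2]; exact h)
    obtain ⟨i, hi⟩ := hfixu _ h1 h2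
    refine ⟨i, ?_⟩
    show a'' ^ i = v
    rw [ha'', conj_zpow, show a' ^ i = d.g⁻¹ * v * d.g from hi]
    group
  have hgen : ∀ L : Subgroup G, a ∈ L → a' ∈ L → a'' ∈ L → d.Z ≤ L := fun L h1 h2 h3 =>
    d.Z_le_of_fixed S L (fun v hv h => zpowers_le.2 h1 (hfixt v hv h))
      (fun v hv h => zpowers_le.2 h2 (hfixu v hv h)) (fun v hv h => zpowers_le.2 h3 (hfixtu v hv h))
  -- no element is fixed by all three involutions
  have hno : ∀ v ∈ d.Z, Commute d.t v → Commute d.u v → v = 1 := by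
    intro v hv hvt hvu
    by_contra hv1
    have hav : a ∈ zpowers v := by
      have hle : zpowers v ≤ zpowers a := zpowers_le.2 (hfixt v hv hvt)
      rw [eq_of_le_of_card_ge hle (by
        rw [Nat.card_zpowers, Nat.card_zpowers, haord, orderOf_eq_prime (d.pow v hv) hv1])]
      exact mem_zpowers a
    obtain ⟨i, rfl⟩ := hav
    have hau : Commute d.u (v ^ i) := hvu.zpow_right i
    have ha't : Commute d.t a' := by
      have h : Commute (d.t * d.u) a' := d.rot.conj2 ▸ hau.map (MulAut.conj d.g).toMonoidHom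
      have h' := h.mul_left ha'u
      rwa [mul_assoc, involution_sq d.rot.hu, mul_one] at h'
    have ha''u : Commute d.u a'' := d.rot.conj1 ▸ ha't.map (MulAut.conj d.g).toMonoidHom
    have ha''t : Commute d.t a'' := by
      have h' := ha''tu.mul_left ha''u
      rwa [mul_assoc, involution_sq d.rot.hu, mul_one] at h'
    set L := centralizer ({d.t} : Set G) with hL
    have hle := hgen L (mem_centralizer_of_commute hat.symm) (mem_centralizer_of_commute ha't.symm)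
      (mem_centralizer_of_commute ha''t.symm)
    exact d.not_commute_all S d.rot.ht fun w hw => (commute_of_mem_centralizer (hle hw)).symm
  have hinv : ∀ v ∈ d.Z, Commute d.u v ∨ Commute (d.t * d.u) v → d.t * v * d.t⁻¹ = v⁻¹ := by
    intro v hv h
    have hvt : d.t * v * d.t⁻¹ ∈ d.Z := (mem_normalizer_iff.1 d.ht v).1 hv
    have h1 : Commute d.t (v * (d.t * v * d.t⁻¹)) := commute_of_conj_eq (by
      rw [← conj_mul, show d.t * (d.t * v * d.t⁻¹) * d.t⁻¹ = (d.t * d.t) * v * (d.t * d.t)⁻¹ by group,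
        involution_sq d.rot.ht, one_mul, inv_one, mul_one]
      exact d.comm _ hvt _ hv)
    have h2 : Commute d.u (v * (d.t * v * d.t⁻¹)) := by
      rcases h with h | h
      · have e := h.map (MulAut.conj d.t).toMonoidHom
        have e' : (MulAut.conj d.t).toMonoidHom d.u = d.u := conj_eq_of_commute d.rot.comm
        rw [e'] at e
        exact h.mul_right e
      · have e : d.t * v * d.t⁻¹ = d.u * v * d.u⁻¹ := by
          have e1 := conj_eq_of_commute h
          calc d.t * v * d.t⁻¹ = d.t * (d.t * d.u * v * (d.t * d.u)⁻¹) * d.t⁻¹ := by rw [e1]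
            _ = (d.t * d.t) * (d.u * v * d.u⁻¹) * (d.t * d.t)⁻¹ := by group
            _ = _ := by rw [involution_sq d.rot.ht]; group
        refine commute_of_conj_eq ?_
        rw [e, ← conj_mul, show d.u * (d.u * v * d.u⁻¹) * d.u⁻¹ = (d.u * d.u) * v * (d.u * d.u)⁻¹ by group,
          involution_sq d.rot.hu, one_mul, inv_one, mul_one]
        exact d.comm _ (e ▸ hvt) _ hv
    exact eq_inv_of_mul_eq_one_right (hno _ (mul_mem hv hvt) h1 h2)
  -- the inverted part
  set V := zpowers a' ⊔ zpowers a'' with hVdef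
  have hVZ : V ≤ d.Z := sup_le (zpowers_le.2 ha'Z) (zpowers_le.2 ha''Z)
  have hVinv : ∀ v ∈ V, d.t * v * d.t⁻¹ = v⁻¹ := by
    let L : Subgroup G :=
      { carrier := {v | v ∈ d.Z ∧ d.t * v * d.t⁻¹ = v⁻¹}
        one_mem' := ⟨one_mem _, by simp⟩
        mul_mem' := fun {v w} hv hw => ⟨mul_mem hv.1 hw.1, by
          rw [← conj_mul, hv.2, hw.2, mul_inv_rev]
          exact d.comm _ (inv_mem hv.1) _ (inv_mem hw.1)⟩
        inv_mem' := fun {v} hv => ⟨inv_mem hv.1, by rw [← conj_inv, hv.2]⟩ }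
    have hle : V ≤ L := sup_le (zpowers_le.2 ⟨ha'Z, hinv _ ha'Z (Or.inl ha'u)⟩)
      (zpowers_le.2 ⟨ha''Z, hinv _ ha''Z (Or.inr ha''tu)⟩)
    exact fun v hv => (hle hv).2
  have hVc : Nat.card V ≤ r * r := by
    refine (Nat.le_of_dvd (Nat.mul_pos Nat.card_pos Nat.card_pos)
      (CfsgLib.Core.card_sup_dvd _ _ fun x hx => mem_normalizer_of_conj fun y hy => ?_)).trans ?_
    · rw [d.comm x (zpowers_le.2 ha'Z hx) y (zpowers_le.2 ha''Z hy), mul_inv_cancel_right]; exact hy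
    · rw [Nat.card_zpowers, Nat.card_zpowers]
      exact Nat.mul_le_mul (orderOf_le_of_pow_eq_one (Fact.out : r.Prime).pos (d.pow _ ha'Z))
        (orderOf_le_of_pow_eq_one (Fact.out : r.Prime).pos (d.pow _ ha''Z))
  have hdec : ∀ v ∈ d.Z, ∃ i : ℤ, ∃ w ∈ V, v = a ^ i * w := by
    intro v hv
    have hle := hgen (zpowers a ⊔ V) (mem_sup_left (mem_zpowers a))
      (mem_sup_right (mem_sup_left (mem_zpowers a')))
      (mem_sup_right (mem_sup_right (mem_zpowers a'')))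
    have hn : zpowers a ≤ normalizer (V : Set G) := fun x hx => mem_normalizer_of_conj fun y hy => by
      rw [d.comm x (zpowers_le.2 ha hx) y (hVZ hy), mul_inv_cancel_right]; exact hy
    obtain ⟨x, hx, w, hw, e⟩ := (CfsgLib.Core.mem_sup_iff_mul hn).1 (hle hv)
    obtain ⟨i, rfl⟩ := hx
    exact ⟨i, w, hw, e⟩
  have hbV : b ∈ normalizer (V : Set G) := mem_normalizer_of_conj fun w hw => by
    have hbw : b * w * b⁻¹ ∈ d.Z := (mem_normalizer_iff.1 hbZ w).1 (hVZ hw)
    obtain ⟨i, w', hw', e⟩ := hdec _ hbw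
    have h1 : d.t * (b * w * b⁻¹) * d.t⁻¹ = (b * w * b⁻¹)⁻¹ := by
      rw [show d.t * (b * w * b⁻¹) * d.t⁻¹ = (d.t * b * d.t⁻¹) * (d.t * w * d.t⁻¹) * (d.t * b * d.t⁻¹)⁻¹
        by group, conj_eq_of_commute hbt.symm, hVinv w hw]
      group
    have h2 : a ^ i = (a ^ i)⁻¹ := by
      rw [e, ← conj_mul, conj_eq_of_commute (hat.zpow_right i), hVinv w' hw', mul_inv_rev,
        d.comm _ (inv_mem (hVZ hw')) _ (inv_mem (zpow_mem ha i))] at h1
      exact mul_right_cancel h1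
    have h3 : a ^ i = 1 :=
      eq_one_of_inv_self (odd_orderOf_of_mem (d.odd_card S.odd) (zpow_mem ha i)) h2.symm
    rw [e, h3, one_mul]; exact hw'
  have hbp : IsPGroup r (zpowers b) := by
    rintro ⟨_, i, rfl⟩
    refine ⟨1, Subtype.ext ?_⟩
    rw [pow_one, SubmonoidClass.coe_pow, OneMemClass.coe_one]
    show (b ^ i) ^ r = 1
    rw [← zpow_natCast, ← zpow_mul, mul_comm, zpow_mul, zpow_natCast, hbr, one_zpow]
  -- quadratic action on `Z`
  have hquad : ∀ v ∈ d.Z, Commute b (b * v * b⁻¹ * v⁻¹) := by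
    intro v hv
    obtain ⟨i, w, hw, rfl⟩ := hdec v hv
    have e : b * (a ^ i * w) * b⁻¹ * (a ^ i * w)⁻¹ = b * w * b⁻¹ * w⁻¹ := by
      have h1 : b * (a ^ i * w) * b⁻¹ = b * w * b⁻¹ * a ^ i := by
        rw [← conj_mul, conj_eq_of_commute (hba.zpow_right i)]
        exact d.comm _ (zpow_mem ha i) _ ((mem_normalizer_iff.1 hbZ w).1 (hVZ hw))
      rw [h1, mul_inv_rev]
      calc b * w * b⁻¹ * a ^ i * (w⁻¹ * (a ^ i)⁻¹)
          = b * w * b⁻¹ * (a ^ i * w⁻¹ * (a ^ i)⁻¹) := by group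
        _ = _ := by
          rw [d.comm _ (zpow_mem ha i) _ (inv_mem (hVZ hw)), mul_inv_cancel_right]
    rw [e]
    exact commute_commutator (d.isP.to_le hVZ) hVc (fun x hx y hy => d.comm x (hVZ hx) y (hVZ hy))
      hbp hbV hw
  set H := normalizer (d.Z : Set G) with hH
  set P := d.Z.subgroupOf H with hP
  haveI : P.Normal := normal_in_normalizer
  have hPp : IsPGroup r P := d.isP.comap_of_injective H.subtype H.subtype_injective
  set β : H := ⟨b, hbZ⟩ with hβ
  have hqH : ⁅⁅P, zpowers β⁆, zpowers β⁆ = ⊥ := by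
    rw [commutator_eq_bot_iff_le_centralizer]
    set F := P ⊓ centralizer (zpowers β : Set H) with hF
    suffices hle : ⁅P, zpowers β⁆ ≤ F from hle.trans inf_le_right
    rw [commutator_le]
    intro p hp y hy
    have hp' : (p : G) ∈ d.Z := hp
    have hF1 : ∀ q : G, q ∈ d.Z → Commute b q → ∀ z : H, (z : G) = q → z ∈ F := by
      rintro q hq hbq z rfl
      refine Subgroup.mem_inf.2 ⟨hq, mem_centralizer_iff.2 ?_⟩
      rintro _ ⟨j, rfl⟩
      exact Subtype.ext (hbq.zpow_left j).eq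
    obtain ⟨j, rfl⟩ := hy
    have key : ∀ n : ℕ, Commute b (b ^ n * (p : G) * (b ^ n)⁻¹ * (p : G)⁻¹) ∧
        b ^ n * (p : G) * (b ^ n)⁻¹ * (p : G)⁻¹ ∈ d.Z := by
      intro n
      induction n with
      | zero => simp
      | succ n ih =>
        have hbp' : b ^ n * (p : G) * (b ^ n)⁻¹ ∈ d.Z :=
          (mem_normalizer_iff.1 (pow_mem hbZ n) _).1 hp'
        rw [show b ^ (n + 1) * (p : G) * (b ^ (n + 1))⁻¹ * (p : G)⁻¹ =
          (b * (b ^ n * (p : G) * (b ^ n)⁻¹) * b⁻¹ * (b ^ n * (p : G) * (b ^ n)⁻¹)⁻¹) *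
            (b ^ n * (p : G) * (b ^ n)⁻¹ * (p : G)⁻¹) by rw [pow_succ']; group]
        exact ⟨(hquad _ hbp').mul_right ih.1, mul_mem (mul_mem ((mem_normalizer_iff.1 hbZ _).1 hbp')
          (inv_mem hbp')) ih.2⟩
    obtain ⟨n, hn⟩ : ∃ n : ℕ, b ^ j = b ^ n := by
      refine ⟨(j % (r : ℤ)).toNat, ?_⟩
      conv_lhs => rw [← Int.emod_add_mul_ediv j r]
      rw [zpow_add, zpow_mul, zpow_natCast, hbr, one_zpow, mul_one, ← zpow_natCast,
        Int.toNat_of_nonneg (Int.emod_nonneg _ (by exact_mod_cast (Fact.out : r.Prime).ne_zero))]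
    have hy' : ((β ^ j : H) : G) = b ^ n := by rw [← hn]; simp [hβ]
    obtain ⟨k1, k2⟩ := key n
    refine hF1 _ (inv_mem k2) k1.inv_right _ ?_
    rw [commutatorElement_def]
    simp only [Subgroup.coe_mul, Subgroup.coe_inv, hy']
    group
  have hmem := CfsgLib.PLocal.SLTwo.mem_pCore_of_noQd S.odd
    (CfsgLib.PLocal.SLTwo.noQd_subgroup S.noQd H) P hPp hqH
  -- the image in the automorphisms of `Z`
  set C := centralizer (P : Set H) with hC
  set Lq := (pCore r (H ⧸ C)).comap (QuotientGroup.mk' C) with hLq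
  haveI : (pCore r (H ⧸ C)).Normal := CfsgLib.Core.normal_pCore r _
  haveI hLn : Lq.Normal := inferInstance
  have hβL : β ∈ Lq := hmem
  have hLp : IsPGroup r (Lq.map d.Z.normalizerMonoidHom) := by
    rintro ⟨_, x, hx, rfl⟩
    obtain ⟨k, hk⟩ := CfsgLib.Core.isPGroup_pCore r (H ⧸ C) ⟨QuotientGroup.mk' C x, hx⟩
    refine ⟨k, Subtype.ext ?_⟩
    rw [SubmonoidClass.coe_pow, OneMemClass.coe_one, ← map_pow, ← MonoidHom.mem_ker,
      normalizerMonoidHom_ker, mem_subgroupOf, mem_centralizer_iff]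
    intro q hq
    have hxC : x ^ r ^ k ∈ C := (QuotientGroup.eq_one_iff _).1 (by
      have := congrArg Subtype.val hk
      rw [SubmonoidClass.coe_pow, OneMemClass.coe_one, ← map_pow] at this
      exact this)
    exact congrArg Subtype.val (mem_centralizer_iff.1 hxC ⟨q, le_normalizer hq⟩ hq)
  have hrZ : r ∣ Nat.card d.Z := by
    simpa only [haord] using orderOf_dvd_natCard d.Z ha
  have h1fix : (1 : d.Z) ∈ MulAction.fixedPoints (Lq.map d.Z.normalizerMonoidHom) d.Z := fun m =>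
    map_one (m : MulAut d.Z)
  obtain ⟨w, hw, hw1⟩ :=
    hLp.exists_fixed_point_of_prime_dvd_card_of_fixed_point d.Z hrZ h1fix
  -- the fixed points form a subgroup invariant under the normaliser
  let F : Subgroup G :=
    { carrier := {v | v ∈ d.Z ∧ ∀ x ∈ Lq, Commute (x : G) v}
      one_mem' := ⟨one_mem _, fun x _ => Commute.one_right _⟩
      mul_mem' := fun {v v'} hv hv' => ⟨mul_mem hv.1 hv'.1, fun x hx => (hv.2 x hx).mul_right (hv'.2 x hx)⟩
      inv_mem' := fun {v} hv => ⟨inv_mem hv.1, fun x hx => (hv.2 x hx).inv_right⟩ }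
  have hwF : (w : G) ∈ F := ⟨w.2, fun x hx => commute_of_conj_eq
    (congrArg Subtype.val (hw ⟨_, x, hx, rfl⟩))⟩
  have hFinv : ∀ n ∈ H, ∀ v ∈ F, n * v * n⁻¹ ∈ F := by
    intro n hn v hv
    refine ⟨(mem_normalizer_iff.1 hn v).1 hv.1, fun x hx => ?_⟩
    have hx' : (⟨n, hn⟩ : H)⁻¹ * x * (⟨n, hn⟩ : H)⁻¹⁻¹ ∈ Lq :=
      hLn.conj_mem x hx _
    have h1 := (hv.2 _ hx').map (MulAut.conj n).toMonoidHom
    simp only [MulEquiv.coe_toMonoidHom, MulAut.conj_apply, Subgroup.coe_mul, Subgroup.coe_inv] at h1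
    rwa [show n * (n⁻¹ * (x : G) * n⁻¹⁻¹) * n⁻¹ = x by group] at h1
  have hfd : ∀ x : G, orderOf x = 2 → x ∈ H → ∀ v ∈ F, v * (x * v * x⁻¹) ∈ F ∧
      Commute x (v * (x * v * x⁻¹)) := by
    intro x hx hxH v hv
    have h1 := hFinv x hxH v hv
    refine ⟨mul_mem hv h1, commute_of_conj_eq ?_⟩
    rw [← conj_mul, show x * (x * v * x⁻¹) * x⁻¹ = (x * x) * v * (x * x)⁻¹ by group, involution_sq hx,
      one_mul, inv_one, mul_one]
    exact d.comm _ h1.1 _ hv.1
  have haF : a ∈ F := by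
    have key : ∀ v, v ∈ F → v ≠ 1 → Commute d.t v → a ∈ F := fun v hv hv1 hvt => by
      have hle : zpowers v ≤ zpowers a := zpowers_le.2 (hfixt v hv.1 hvt)
      exact zpowers_le.2 hv ((eq_of_le_of_card_ge hle (by
        rw [Nat.card_zpowers, Nat.card_zpowers, haord, orderOf_eq_prime (d.pow v hv.1) hv1])).ge
          (mem_zpowers a))
    have keyu : ∀ v, v ∈ F → v ≠ 1 → Commute d.u v → a ∈ F := fun v hv hv1 hvu => by
      refine key (d.g⁻¹ * v * d.g) (by simpa using hFinv _ (inv_mem d.hg) v hv)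
        (fun e => hv1 ?_) (hback hv.1 (by rw [d.rot.conj1]; exact hvu)).2
      calc v = d.g * (d.g⁻¹ * v * d.g) * d.g⁻¹ := by group
        _ = 1 := by rw [e]; group
    have hwne : (w : G) ≠ 1 := fun e => hw1 (Subtype.ext (by rw [e]; rfl))
    obtain ⟨p1, p2⟩ := hfd d.t d.rot.ht d.ht w hwF
    by_cases e1 : (w : G) * (d.t * w * d.t⁻¹) = 1
    · obtain ⟨q1, q2⟩ := hfd d.u d.rot.hu d.hu w hwF
      by_cases e2 : (w : G) * (d.u * w * d.u⁻¹) = 1
      · have hwtu : Commute (d.t * d.u) (w : G) := commute_of_conj_eq (by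
          rw [show d.t * d.u * (w : G) * (d.t * d.u)⁻¹ = d.t * (d.u * w * d.u⁻¹) * d.t⁻¹ by group,
            eq_inv_of_mul_eq_one_right e2,
            show d.t * (w : G)⁻¹ * d.t⁻¹ = (d.t * w * d.t⁻¹)⁻¹ by group,
            eq_inv_of_mul_eq_one_right e1, inv_inv])
        refine keyu (d.g⁻¹ * w * d.g) (by simpa using hFinv _ (inv_mem d.hg) _ hwF)
          (fun e => hwne ?_) (hback w.2 (by rw [d.rot.conj2]; exact hwtu)).2
        calc (w : G) = d.g * (d.g⁻¹ * w * d.g) * d.g⁻¹ := by group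
          _ = 1 := by rw [e]; group
      · exact keyu _ q1 e2 q2
    · exact key _ p1 e1 p2
  have hZF : d.Z ≤ F := hgen F haF (hFinv _ d.hg _ haF) (hFinv _ d.hg _ (hFinv _ d.hg _ haF))
  exact fun v hv => (hZF hv).2 β hβL

end AZ

end CfsgLib.GW.Sig
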