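import Cfsg.Agent.Lib.GW.Sig.Abelian.Balance
import Cfsg.Agent.Lib.GW.Sig.Abelian.Quadratic
import Cfsg.Agent.Lib.GW.Sig.Embed
import Cfsg.Agent.Lib.Transfer.RankTwo

/-!
# No abelian datum

With `N(Z)` controlling the fusion of its `r`-subgroups, `W N(Z)` satisfies the hypotheses of
`Emb.false_of`.
-/

set_option autoImplicit false

namespace CfsgLib.GW.Sig

open Subgroup Cfsg
open CfsgLib.Signalizer (involution_sq involution_inv involution_ne_one orderOf_conj)

universe u

variable {G : Type u} [Group G] [Finite G] {r : ℕ} [Fact r.Prime]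

/-- Some `O(C(t))` has a non-cyclic `r`-subgroup, or all are abelian. -/
def BigU (G : Type u) [Group G] (r : ℕ) : Prop :=
  (∃ (t : G) (E : Subgroup G), orderOf t = 2 ∧ E ≤ U t ∧ IsPGroup r E ∧ ¬ IsCyclic E) ∨
    ∀ t x y : G, orderOf t = 2 → x ∈ U t → y ∈ U t → Commute x y

namespace AZ

variable (d : AZ G r)

/-- Elements fixed by `t` have constrained centralisers. -/
theorem constrained_t (S : Std G r) {a : G} (ha : a ∈ d.Z) (ha1 : a ≠ 1) (hat : Commute d.t a) :
    Constrained r (centralizer ({a} : Set G)) := by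
  obtain ⟨c, hc, -, hct, hcc⟩ := d.exists_constrained S
  exact d.constrained_of_fix S (d.centralizer_ne_top S ha1) (fun _ hx => d.mem_centralizer hx ha)
    d.rot.ht (le_normalizer (mem_centralizer_of_commute hat)) d.ht hc hct hcc

/-- Elements inverted by `t` have constrained centralisers. -/
theorem constrained_inverted (S : Std G r) {h : G} (hh : h ∈ d.Z) (hh1 : h ≠ 1)
    (hth : d.t * h * d.t⁻¹ = h⁻¹) : Constrained r (centralizer ({h} : Set G)) := by
  obtain ⟨c, hc, -, hct, hcc⟩ := d.exists_constrained S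
  refine d.constrained_of_fix S (d.centralizer_ne_top S hh1) (fun _ hx => d.mem_centralizer hx hh)
    d.rot.ht (mem_normalizer_of_conj fun x hx => mem_centralizer_of_commute ?_) d.ht hc hct hcc
  have h1 := (commute_of_mem_centralizer hx).map (MulAut.conj d.t).toMonoidHom
  have h2 : (MulAut.conj d.t).toMonoidHom h = h⁻¹ := hth
  rw [h2] at h1
  simpa using h1.inv_right

/-- The data for `Emb.false_of`. -/
noncomputable def emb (S : Std G r) (c : Ctx G r) (hXZ : c.X ≤ normalizer (d.Z : Set G)) {a : G}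
    (ha : a ∈ d.Z) (ha1 : a ≠ 1) (hat : Commute d.t a) : Emb G r where
  N := normalizer (d.Z : Set G)
  W := d.W
  B := d.Z ⊓ centralizer ({d.t} : Set G)
  t := d.t
  a := a
  ht := d.rot.ht
  tN := d.ht
  norm := d.normalizer_le_normalizer_W
  W_odd := d.W_odd S
  W_coprime := (d.W_spec S).1
  ctl := controls_of_ctx S c hXZ
  B_le := inf_le_left.trans le_normalizer
  B_t := inf_le_right
  B_p := d.isP.to_le inf_le_left
  B_comm := fun x hx y hy => d.comm x hx.1 y hy.1
  B_norm := (le_inf inf_le_left (inf_le_right.trans le_normalizer)).trans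
    CfsgLib.Transfer.normalizer_le_normalizer_inf
  a_mem := ⟨ha, mem_centralizer_of_commute hat.symm⟩
  a_cent := d.centralizer_le_M S ha ha1 (d.constrained_t S ha ha1 hat)

/-- `O_{r'}(O(C(t)))` lies in `M`. -/
theorem theta_U_le_M (S : Std G r) (c : Ctx G r) (hXZ : c.X ≤ normalizer (d.Z : Set G))
    (hbig : BigU G r) : thetaOf r (U d.t) ≤ d.M := by
  classical
  obtain ⟨a, ha, ha1, hat, -⟩ := d.exists_constrained S
  have hac := d.constrained_t S ha ha1 hat
  have hao : Odd (orderOf a) := odd_orderOf_of_mem (d.odd_card S.odd) ha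
  have haU : a ∈ U d.t := (S.base.mem_U d.rot.ht).2 ⟨hat.symm, hao⟩
  rcases hbig with ⟨t₀, E, ht₀, hE, hEp, hEnc⟩ | hab
  swap
  · exact fun x hx => d.centralizer_le_M S ha ha1 hac
      (mem_centralizer_of_commute (hab d.t x a d.rot.ht (thetaOf_le r _ hx) haU))
  set B := d.Z ⊓ centralizer ({d.t} : Set G) with hB
  set H := U d.t with hH
  obtain ⟨P, hPN, hBP⟩ : ∃ P : Sylow r H,
      (P : Subgroup H).map H.subtype ≤ normalizer (d.Z : Set G) ∧
        B ≤ (P : Subgroup H).map H.subtype :=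
    (d.emb S c hXZ ha ha1 hat).exists_sylow_U S
  set P' := (P : Subgroup H).map H.subtype with hP'
  have hP'p : IsPGroup r P' := P.2.map _
  have haB : a ∈ B := ⟨ha, mem_centralizer_of_commute hat.symm⟩
  have hP'B : P' ≤ normalizer (B : Set G) :=
    (le_inf hPN (((map_subtype_le _).trans (U_le d.t)).trans le_normalizer)).trans
      CfsgLib.Transfer.normalizer_le_normalizer_inf
  -- `O_{r'}(O(C(t)))` is generated by fixed points
  obtain ⟨A, hAc, hApow, hA2, hAP, hAM⟩ : ∃ A : Subgroup G, IsMulCommutative A ∧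
      (∀ c ∈ A, c ^ r = 1) ∧ r ^ 2 ≤ Nat.card A ∧ A ≤ P' ∧
      ∀ c ∈ A, c ≠ 1 → centralizer ({c} : Set G) ≤ d.M := by
    by_cases hB2 : r ^ 2 ≤ Nat.card B
    · exact ⟨B, ⟨⟨fun x y => Subtype.ext (d.comm _ x.2.1 _ y.2.1)⟩⟩, fun c hc => d.pow c hc.1, hB2,
        hBP, fun c hc hc1 => d.centralizer_le_M S hc.1 hc1
          (d.constrained_t S hc.1 hc1 (commute_of_mem_centralizer hc.2).symm)⟩
    have hBr : Nat.card B ≤ r := by
      obtain ⟨k, hk⟩ := IsPGroup.iff_card.1 (d.isP.to_le (inf_le_left : B ≤ d.Z))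
      rw [hk] at hB2 ⊢
      have : k < 2 := by
        by_contra h2
        exact hB2 (Nat.pow_le_pow_right (Fact.out : r.Prime).pos (not_lt.1 h2))
      exact (Nat.pow_le_pow_right (Fact.out : r.Prime).pos (by omega : k ≤ 1)).trans (pow_one r).le
    have hPnc : ¬ IsCyclic P' := by
      intro hcyc
      obtain ⟨x, hx⟩ := isConj_iff.1 (S.base.one_class t₀ d.t ht₀ d.rot.ht)
      set E' := E.map (MulAut.conj x).toMonoidHom with hE'
      have hE'U : E' ≤ H := by
        rintro _ ⟨e, he, rfl⟩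
        obtain ⟨h1, h2⟩ := (S.base.mem_U ht₀).1 (hE he)
        refine (S.base.mem_U d.rot.ht).2 ⟨?_, ?_⟩
        · have h3 := h1.map (MulAut.conj x).toMonoidHom
          rw [show (MulAut.conj x).toMonoidHom t₀ = d.t from hx] at h3
          exact h3
        · rwa [show (MulAut.conj x).toMonoidHom e = MulAut.conj x e from rfl, MulEquiv.orderOf_eq]
      obtain ⟨c, hc⟩ := CfsgLib.TwoGroups.exists_conj_le_sylow P
        ((hEp.map _).comap_of_injective H.subtype H.subtype_injective :
          IsPGroup r (E'.subgroupOf H))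
      haveI : IsCyclic (P : Subgroup H) :=
        isCyclic_of_surjective
          ((P : Subgroup H).equivMapOfInjective H.subtype H.subtype_injective).symm
          (MulEquiv.surjective _)
      haveI h4 : IsCyclic ((E'.subgroupOf H).map (MulAut.conj c).toMonoidHom) :=
        isCyclic_of_injective (inclusion hc) (inclusion_injective hc)
      refine hEnc (isCyclic_of_injective
        (((E.equivMapOfInjective _ (MulAut.conj x).injective).trans
          (subgroupOfEquivOfLe hE'U).symm).trans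
            ((E'.subgroupOf H).equivMapOfInjective (MulAut.conj c).toMonoidHom (MulAut.conj c).injective)).toMonoidHom
        (MulEquiv.injective _))
    obtain ⟨A₀, hA₀⟩ := CfsgLib.Transfer.exists_normal_elementary_card_sq S.odd hP'p hPnc
    obtain ⟨-, hA₀e, hA₀2⟩ := hA₀
    obtain ⟨b, hb, hba⟩ : ∃ b ∈ A₀, (b : G) ∉ zpowers a := by
      by_contra hno
      push Not at hno
      have hle : A₀.map P'.subtype ≤ zpowers a := by
        rintro _ ⟨b, hb, rfl⟩; exact hno b hb
      have h1 := Subgroup.card_le_of_le hle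
      rw [card_map_of_injective P'.subtype_injective, hA₀2, Nat.card_zpowers,
        orderOf_eq_prime (d.pow a ha) ha1] at h1
      nlinarith [(Fact.out : r.Prime).two_le]
    have hbr : (b : G) ^ r = 1 := by
      rw [← SubmonoidClass.coe_pow, hA₀e.2 b hb, OneMemClass.coe_one]
    have hbp : IsPGroup r (zpowers (b : G)) := hP'p.to_le (zpowers_le.2 b.2)
    have hbt : Commute (b : G) d.t := ((S.base.mem_U d.rot.ht).1 (map_subtype_le _ b.2)).1
    have hba' : Commute (b : G) a :=
      commute_of_card_le (d.isP.to_le (inf_le_left : B ≤ d.Z)) hBr hbp (hP'B b.2) haB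
    have hbZ := d.commute_Z S hBr ha ha1 hat hbr (hPN b.2) hbt hba'
    set A := zpowers a ⊔ zpowers (b : G) with hAdef
    have hAC : ∀ c ∈ A, (∀ v ∈ d.Z, Commute c v) ∧ Commute c d.t ∧ Commute c (b : G) := by
      let L : Subgroup G :=
        { carrier := {c | (∀ v ∈ d.Z, Commute c v) ∧ Commute c d.t ∧ Commute c (b : G)}
          one_mem' := ⟨fun v _ => Commute.one_left v, Commute.one_left _, Commute.one_left _⟩
          mul_mem' := fun {x y} hx hy =>
            ⟨fun v hv => (hx.1 v hv).mul_left (hy.1 v hv), hx.2.1.mul_left hy.2.1, hx.2.2.mul_left hy.2.2⟩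
          inv_mem' := fun {x} hx => ⟨fun v hv => (hx.1 v hv).inv_left, hx.2.1.inv_left, hx.2.2.inv_left⟩ }
      have hle : A ≤ L := sup_le
        (zpowers_le.2 ⟨fun v hv => d.comm a ha v hv, hat.symm, hba'.symm⟩)
        (zpowers_le.2 ⟨hbZ, hbt, Commute.refl _⟩)
      exact fun c hc => hle hc
    have hn : zpowers a ≤ normalizer ((zpowers (b : G) : Subgroup G) : Set G) := fun x hx =>
      mem_normalizer_of_conj fun y hy => by
        obtain ⟨j, rfl⟩ := hy
        rw [conj_eq_of_commute ((hAC x (mem_sup_left hx)).2.2.zpow_right j)]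
        exact zpow_mem (mem_zpowers _) j
    have hAP : A ≤ P' := sup_le (zpowers_le.2 (hBP haB)) (zpowers_le.2 b.2)
    have hAdec : ∀ c ∈ A, ∃ i j : ℤ, c = a ^ i * (b : G) ^ j := by
      intro c hc
      obtain ⟨x, hx, y, hy, e⟩ := (CfsgLib.Core.mem_sup_iff_mul hn).1 hc
      obtain ⟨i, rfl⟩ := hx
      obtain ⟨j, rfl⟩ := hy
      exact ⟨i, j, e⟩
    have hApow : ∀ c ∈ A, c ^ r = 1 := by
      intro c hc
      obtain ⟨i, j, rfl⟩ := hAdec c hc
      rw [((hba'.symm.zpow_left i).zpow_right j).mul_pow, ← zpow_natCast, ← zpow_natCast,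
        ← zpow_mul, ← zpow_mul, mul_comm i, mul_comm j, zpow_mul, zpow_mul, zpow_natCast,
        zpow_natCast, d.pow a ha, hbr, one_zpow, one_zpow, one_mul]
    refine ⟨A, ⟨⟨fun x y => Subtype.ext ?_⟩⟩, hApow, ?_, hAP, fun c hc hc1 => ?_⟩
    · obtain ⟨i, j, e⟩ := hAdec y y.2
      show (x : G) * y = y * x
      rw [e]
      exact (((hAC x x.2).1 a ha).zpow_right i).mul_right ((hAC x x.2).2.2.zpow_right j)
    · have hlt : zpowers a < A :=
        lt_of_le_of_ne le_sup_left fun e => hba (e.ge (mem_sup_right (mem_zpowers _)))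
      have h1 := card_mul_le_of_lt (hP'p.to_le hAP) hlt
      rwa [Nat.card_zpowers, orderOf_eq_prime (d.pow a ha) ha1, ← pow_two] at h1
    · obtain ⟨h1, h2, -⟩ := hAC c hc
      exact d.centralizer_le_M' S (hP'p.to_le (zpowers_le.2 (hAP hc))) h1
        (d.constrained_of_fix S (d.centralizer_ne_top S hc1)
          (fun v hv => mem_centralizer_of_commute (h1 v hv).symm) d.rot.ht
          (le_normalizer (mem_centralizer_of_commute h2.symm)) d.ht ha hat hac)
  haveI := hAc
  exact CfsgLib.LocalEven.le_of_centralizers_le (p := r) hApow hA2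
    ((hAP.trans (map_subtype_le _)).trans (le_normalizer_thetaOf r H)) (not_dvd_thetaOf r H)
    fun c hc hc1 => inf_le_right.trans (hAM c hc hc1)

/-- An involution of `N(Z)` commuting with `t` fixes a constrained element. -/
theorem exists_fixed (S : Std G r) {s : G} (hs : orderOf s = 2)
    (hsZ : s ∈ normalizer (d.Z : Set G)) (hst : Commute s d.t) :
    ∃ h ∈ d.Z, h ≠ 1 ∧ Commute s h ∧ Constrained r (centralizer ({h} : Set G)) := by
  by_contra hno
  push Not at hno
  have hsc : ∀ v : G, s * (s * v * s⁻¹) * s⁻¹ = v := fun v => by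
    rw [show s * (s * v * s⁻¹) * s⁻¹ = (s * s) * v * (s * s)⁻¹ by group, involution_sq hs]; group
  have htc : ∀ v : G, d.t * (d.t * v * d.t⁻¹) * d.t⁻¹ = v := fun v => by
    rw [show d.t * (d.t * v * d.t⁻¹) * d.t⁻¹ = (d.t * d.t) * v * (d.t * d.t)⁻¹ by group,
      involution_sq d.rot.ht]
    group
  have hts : ∀ v : G, d.t * (s * v * s⁻¹) * d.t⁻¹ = s * (d.t * v * d.t⁻¹) * s⁻¹ := fun v => by
    rw [show d.t * (s * v * s⁻¹) * d.t⁻¹ = (d.t * s) * v * (d.t * s)⁻¹ by group, ← hst.eq]; group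
  have hinv : ∀ v ∈ d.Z, (Commute d.t v ∨ d.t * v * d.t⁻¹ = v⁻¹) → s * v * s⁻¹ = v⁻¹ := by
    intro v hv htv
    have hv' : s * v * s⁻¹ ∈ d.Z := (mem_normalizer_iff.1 hsZ v).1 hv
    have hfix : Commute s (v * (s * v * s⁻¹)) := commute_of_conj_eq (by
      rw [← conj_mul, hsc]; exact d.comm _ hv' _ hv)
    by_contra hne
    have h1 : v * (s * v * s⁻¹) ≠ 1 := fun e => hne (eq_inv_of_mul_eq_one_right e)
    refine hno _ (mul_mem hv hv') h1 hfix ?_
    rcases htv with h | h
    · refine d.constrained_t S (mul_mem hv hv') h1 (commute_of_conj_eq ?_)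
      rw [← conj_mul, hts, conj_eq_of_commute h]
    · refine d.constrained_inverted S (mul_mem hv hv') h1 ?_
      rw [← conj_mul, hts, h, mul_inv_rev, conj_inv]
      exact d.comm _ (inv_mem hv) _ (by rw [← conj_inv]; exact inv_mem hv')
  have hall : ∀ v ∈ d.Z, s * v * s⁻¹ = v⁻¹ := by
    intro v hv
    have hvt : d.t * v * d.t⁻¹ ∈ d.Z := (mem_normalizer_iff.1 d.ht v).1 hv
    have h1 := hinv _ (mul_mem hv hvt) (Or.inl (commute_of_conj_eq (by
      rw [← conj_mul, htc]; exact d.comm _ hvt _ hv)))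
    have h2 := hinv _ (mul_mem hv (inv_mem hvt)) (Or.inr (by
      rw [← conj_mul, ← conj_inv, htc, mul_inv_rev, inv_inv]))
    have h3 : s * v ^ 2 * s⁻¹ = (v ^ 2)⁻¹ := by
      rw [← mul_mul_inv_eq_sq (d.comm _ hv _ hvt), ← conj_mul, h1, h2, mul_inv_rev _ (v * (_)⁻¹)]
      exact d.comm _ (inv_mem (mul_mem hv hvt)) _ (inv_mem (mul_mem hv (inv_mem hvt)))
    obtain ⟨m, hm⟩ := exists_pow_eq_self_of_coprime (n := 2)
      (Nat.coprime_two_left.2 (odd_orderOf_of_mem (d.odd_card S.odd) hv))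
    rw [← hm, ← conj_pow, h3, inv_pow]
  let L : Subgroup G :=
    { carrier := {x | (∀ v ∈ d.Z, x * v * x⁻¹ = v) ∨ ∀ v ∈ d.Z, x * v * x⁻¹ = v⁻¹}
      one_mem' := Or.inl fun v _ => by group
      mul_mem' := fun {x y} hx hy => by
        have e : ∀ v, x * y * v * (x * y)⁻¹ = x * (y * v * y⁻¹) * x⁻¹ := fun v => by group
        rcases hx with hx | hx <;> rcases hy with hy | hy
        · exact Or.inl fun v hv => by rw [e, hy v hv, hx v hv]
        · exact Or.inr fun v hv => by rw [e, hy v hv, hx _ (inv_mem hv)]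
        · exact Or.inr fun v hv => by rw [e, hy v hv, hx v hv]
        · exact Or.inl fun v hv => by rw [e, hy v hv, hx _ (inv_mem hv), inv_inv]
      inv_mem' := fun {x} hx => by
        rcases hx with hx | hx
        · exact Or.inl fun v hv => by
            calc x⁻¹ * v * x⁻¹⁻¹ = x⁻¹ * (x * v * x⁻¹) * x := by rw [hx v hv]; group
              _ = v := by group
        · exact Or.inr fun v hv => by
            have h1 := hx _ (inv_mem hv)
            rw [inv_inv] at h1
            calc x⁻¹ * v * x⁻¹⁻¹ = x⁻¹ * (x * v⁻¹ * x⁻¹) * x := by rw [h1]; group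
              _ = v⁻¹ := by group }
  have hLn : normalizer (d.Z : Set G) ≤ normalizer (L : Set G) := fun n hn =>
    mem_normalizer_of_conj fun x hx => by
      have e : ∀ v, n * x * n⁻¹ * v * (n * x * n⁻¹)⁻¹ = n * (x * (n⁻¹ * v * n) * x⁻¹) * n⁻¹ :=
        fun v => by group
      have hv' : ∀ v ∈ d.Z, n⁻¹ * v * n ∈ d.Z := fun v hv => by
        simpa using (mem_normalizer_iff.1 (inv_mem hn) v).1 hv
      rcases hx with hx | hx
      · exact Or.inl fun v hv => by rw [e, hx _ (hv' v hv)]; group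
      · exact Or.inr fun v hv => by rw [e, hx _ (hv' v hv)]; group
  have hsL : s ∈ L := Or.inr hall
  have hLe : ¬ Odd (Nat.card L) := fun ho => involution_ne_one hs
    ((twoElt_of_involution hs).eq_one_of_mem ho hsL)
  obtain ⟨⟨a, ha, pa⟩, ⟨b, hb, pb⟩, ⟨c, hc, pc⟩⟩ := d.pieces S.odd
  have hodd : ∀ {x : G}, x ∈ d.Z → Odd (orderOf x) := fun hx =>
    odd_orderOf_of_mem (d.odd_card S.odd) hx
  -- an element fixing `p` and inverting `q` is outside `L`
  have key : ∀ {w p q : G}, p ∈ d.Z → p ≠ 1 → q ∈ d.Z → q ≠ 1 → Commute w p →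
      w * q * w⁻¹ = q⁻¹ → w ∉ L := fun {w p q} hp hp1 hq hq1 hwp hwq hw => by
    rcases hw with h | h
    · exact hq1 (eq_one_of_inv_self (hodd hq) (hwq.symm.trans (h q hq)))
    · exact hp1 (eq_one_of_inv_self (hodd hp) ((h p hp).symm.trans (conj_eq_of_commute hwp)))
  rcases S.base.four_meets hLe d.rot.ht d.rot.hu d.rot.ne d.rot.comm (hLn d.ht) (hLn d.hu) with
    h | h | h
  · exact key pa.1 ha pb.1 hb pa.2.1 pb.2.2 h
  · exact key pb.1 hb pa.1 ha pb.2.1 pa.2.2 h
  · refine key pc.1 hc pa.1 ha pc.2.1 ?_ h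
    rw [show d.t * d.u * a * (d.t * d.u)⁻¹ = d.t * (d.u * a * d.u⁻¹) * d.t⁻¹ by group, pa.2.2]
    exact conj_eq_of_commute pa.2.1.inv_right

/-- The abelian case does not occur. -/
theorem false_of_ctx (S : Std G r) (c : Ctx G r) (hXZ : c.X ≤ normalizer (d.Z : Set G))
    (hbig : BigU G r) : False := by
  obtain ⟨a, ha, ha1, hat, -⟩ := d.exists_constrained S
  refine (d.emb S c hXZ ha ha1 hat).false_of S (d.theta_U_le_M S c hXZ hbig) (d.M_ne_top S) ?_ ?_
  · obtain ⟨k, hk⟩ := IsPGroup.iff_card.1 d.isP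
    have h3 : 3 ≤ k :=
      (Nat.pow_le_pow_iff_right (Fact.out : r.Prime).one_lt).1 (hk ▸ d.rank_three S)
    exact (hk ▸ pow_dvd_pow r h3 : r ^ 3 ∣ Nat.card d.Z).trans (card_subgroup_dvd_card d.Z)
  · intro s hs hsZ hst
    obtain ⟨h, hh, hh1, hsh, hhc⟩ := d.exists_fixed S hs hsZ hst
    exact ⟨h, le_normalizer hh, d.isP.to_le (zpowers_le.2 hh), hsh, d.centralizer_le_M S hh hh1 hhc⟩

end AZ

end CfsgLib.GW.Sig
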